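import Cfsg.Agent.Lib.WCIndexTwo.Orbit
import Cfsg.Agent.Lib.LargeExtraspecial.IndexTwo

/-!
# Weak closure forces `H` to have no subgroup of index two

`transfer_eq_lam` : the transfer of a sign; `false_of_wc` : transfer to `H` of the sign attached to a subgroup of index two, evaluated at a
well chosen `2`-element outside it.
-/

set_option autoImplicit false

namespace Cfsg.Agent.WCIndexTwo

open Subgroup MulAction LargeExtraspecial.TransferFixed

variable {G : Type*} [Group G] {H E : Subgroup G} {z : G}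

/-- A `2`-element of least order outside the kernel of `μ`. -/
theorem exists_min_element [Finite G] {μ : H →* ℤˣ} (hne : ∃ x : H, μ x ≠ 1) :
    ∃ h ∈ H, ∃ j : ℕ, 1 ≤ j ∧ h ^ 2 ^ j = 1 ∧ lam μ h ≠ 1 ∧
      ∀ i < j, ∀ x ∈ H, x ^ 2 ^ i = 1 → lam μ x = 1 := by
  classical
  have hex : ∃ j : ℕ, ∃ x ∈ H, x ^ 2 ^ j = 1 ∧ lam μ x ≠ 1 := by
    obtain ⟨x, hx⟩ := hne
    obtain ⟨a, m, hm, ham⟩ := Nat.exists_eq_pow_mul_and_not_dvd (orderOf_pos (x : G)).ne' 2 (by norm_num)
    refine ⟨a, (x : G) ^ m, pow_mem x.2 m, by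
      rw [← pow_mul, mul_comm, ← ham, pow_orderOf_eq_one], ?_⟩
    have hodd : Odd m := Nat.not_even_iff_odd.mp (fun h => hm (even_iff_two_dvd.mp h))
    rw [lam_of_mem (pow_mem x.2 m), show (⟨(x : G) ^ m, pow_mem x.2 m⟩ : H) = x ^ m from rfl, map_pow,
      (Int.units_eq_one_or (μ x)).resolve_left hx, hodd.neg_one_pow]
    decide
  obtain ⟨h, hh, hj, hne'⟩ := Nat.find_spec hex
  refine ⟨h, hh, Nat.find hex, ?_, hj, hne', fun i hi x hx hxi => ?_⟩
  · by_contra h0
    rw [show Nat.find hex = 0 by omega, pow_zero, pow_one] at hj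
    apply hne'
    rw [hj, lam_of_mem (one_mem H)]
    exact map_one μ
  · by_contra hc
    exact Nat.find_min hex hi ⟨x, hx, hxi, hc⟩

/-- The transfer of a sign at a `2`-element whose proper powers are killed is that sign. -/
theorem transfer_eq_lam [Finite G] (hS : Setting H E z) (hW : WC E z) (n : ℕ) (hn : 3 ≤ n)
    (hcard : Nat.card E = 2 ^ (2 * n + 1)) (μ : H →* ℤˣ) {h : G} (hh : h ∈ H) {j : ℕ} (hhj : h ^ 2 ^ j = 1)
    (hbig : ∀ g : G, ∀ r, 2 ≤ r → r ∣ orderOf h → g⁻¹ * h ^ r * g ∈ H → lam μ (g⁻¹ * h ^ r * g) = 1)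
    (hcase : h * h = 1 ∨ ((∀ x ∈ H, x * x = 1 → lam μ x = 1) ∧
      ∀ x ∈ H, x ^ 4 = 1 → lam μ x ≠ 1 → h ^ 4 = 1)) :
    MonoidHom.transfer μ h = lam μ h := by
  classical
  haveI : Fintype (G ⧸ H) := Fintype.ofFinite _
  have hzc : ∀ e ∈ E, e * z = z * e := fun e he => zc hS he
  let f : G ⧸ H → ℤˣ := fun q => Quotient.liftOn' q (fun g => lam μ (g⁻¹ * h * g)) fun a b hab => by
    rw [QuotientGroup.leftRel_apply] at hab
    rw [← lam_conj hab (a⁻¹ * h * a)]
    congr 1
    group
  have hf : ∀ g : G, f (g : G ⧸ H) = lam μ (g⁻¹ * h * g) := fun g => rfl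
  have hff : ∀ q, f q ≠ 1 → h • q = q := by
    intro q
    induction q using QuotientGroup.induction_on with
    | _ g =>
      intro hne'
      rw [mk_fixed_iff]
      by_contra hc
      exact hne' (lam_of_not_mem hc)
  have hfw : ∀ w, Commute w h → ∀ q, f (w • q) = f q := by
    intro w hw q
    induction q using QuotientGroup.induction_on with
    | _ g =>
      show lam μ ((w * g)⁻¹ * h * (w * g)) = lam μ (g⁻¹ * h * g)
      congr 1
      calc (w * g)⁻¹ * h * (w * g) = g⁻¹ * (w⁻¹ * (h * w)) * g := by group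
        _ = g⁻¹ * (w⁻¹ * (w * h)) * g := by rw [hw.eq]
        _ = _ := by group
  set q1 : G ⧸ H := ((1 : G) : G ⧸ H)
  have hEq1 : ∀ e ∈ E, e • q1 = q1 := fun e he => by
    rw [mk_fixed_iff]; simpa using hS.hEH he
  have hne1 : ∀ q, q ≠ q1 → ∀ e ∈ E, e • q ≠ q1 := by
    intro q hq e he heq
    apply hq
    have := congrArg (e⁻¹ • ·) heq
    simp only [inv_smul_smul, hEq1 _ (inv_mem he)] at this
    exact this
  -- only the base coset is fixed by `E`
  have honly : ∀ q : G ⧸ H, q ≠ q1 → ∃ e ∈ E, e • q ≠ q := by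
    intro q hq
    by_contra hcon
    push Not at hcon
    obtain ⟨g, rfl⟩ := QuotientGroup.mk_surjective q
    apply hq
    have hw : g * z * g⁻¹ ∈ Subgroup.centralizer (E : Set G) := by
      rw [mem_centralizer_iff]
      intro e he
      have := (hS.hH _).mp ((mk_fixed_iff e g).mp (hcon e he))
      calc e * (g * z * g⁻¹) = g * (g⁻¹ * e * g * z) * g⁻¹ := by group
        _ = g * (z * (g⁻¹ * e * g)) * g⁻¹ := by rw [this]
        _ = _ := by group
    rw [QuotientGroup.eq, mul_one, inv_mem_iff, hS.hH]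
    exact mul_inv_eq_iff_eq_mul.mp (hW g (hS.self hw))
  have horbit : ∀ q, q ≠ q1 →
      ∏ x ∈ (Finset.univ : Finset (G ⧸ H)).filter (fun x => ∃ e ∈ E, e • q = x), f x = 1 := by
    intro q hq
    set s := (Finset.univ : Finset (G ⧸ H)).filter (fun x => ∃ e ∈ E, e • q = x) with hs
    have hmem : ∀ x, x ∈ s ↔ ∃ e ∈ E, e • q = x := fun x => by
      simp only [hs, Finset.mem_filter, Finset.mem_univ, true_and]
    have hsmul : ∀ w ∈ E, ∀ x ∈ s, w • x ∈ s := by
      intro w hw x hx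
      obtain ⟨e, he, rfl⟩ := (hmem x).mp hx
      exact (hmem _).mpr ⟨w * e, mul_mem hw he, mul_smul w e q⟩
    by_cases hzq : z • q ≠ q
    · refine Finset.prod_involution (fun x _ => z • x) (fun x _ => ?_) (fun x hx _ => ?_)
        (fun x hx => hsmul z hS.zE x hx) (fun x _ => ?_)
      · rw [hfw z ((hS.hH h).mp hh).symm, ← pow_two, Int.units_sq]
      · obtain ⟨e, he, rfl⟩ := (hmem x).mp hx
        rw [smul_smul, ← hzc e he, ← smul_smul]
        exact fun heq => hzq (smul_left_cancel e heq)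
      · show z • z • x = x
        rw [smul_smul, hS.z2, one_smul]
    push Not at hzq
    have hzall : ∀ x ∈ s, z • x = x := by
      intro x hx
      obtain ⟨e, he, rfl⟩ := (hmem x).mp hx
      rw [smul_smul, ← hzc e he, ← smul_smul, hzq]
    -- being fixed is constant along the orbit
    have hfixall : ∀ w ∈ E, ∀ x ∈ s, (w • x = x ↔ w • q = q) := by
      intro w hw x hx
      obtain ⟨e, he, rfl⟩ := (hmem x).mp hx
      rcases hS.comm w hw e he with hc | hc
      · rw [smul_smul, hc, ← smul_smul, smul_left_cancel_iff]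
      · rw [smul_smul, hc, ← smul_smul, ← smul_smul, hzq, smul_left_cancel_iff]
    by_cases hw : ∃ w ∈ E, Commute w h ∧ w • q ≠ q
    · obtain ⟨w, hwE, hwh, hwq⟩ := hw
      refine Finset.prod_involution (fun x _ => w • x) (fun x _ => ?_) (fun x hx _ => ?_)
        (fun x hx => hsmul w hwE x hx) (fun x hx => ?_)
      · rw [hfw w hwh, ← pow_two, Int.units_sq]
      · exact fun heq => hwq ((hfixall w hwE x hx).mp heq)
      · show w • w • x = x
        rw [smul_smul]
        rcases hS.sq w hwE with h2 | h2 <;> rw [h2]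
        · rw [one_smul]
        · exact hzall x hx
    push Not at hw
    by_cases hex : ∀ x ∈ s, h • x ≠ x
    · exact Finset.prod_eq_one fun x hx => by
        by_contra hc
        exact hex x hx (hff x hc)
    push Not at hex
    obtain ⟨q', hq's, hq'h⟩ := hex
    obtain ⟨e₁, he₁, he₁q⟩ := (hmem q').mp hq's
    obtain ⟨g, rfl⟩ := QuotientGroup.mk_surjective q'
    have hgq1 : ((g : G) : G ⧸ H) ≠ q1 := he₁q ▸ hne1 q hq e₁ he₁
    have hL : Local H E z n μ h g := by
      refine ⟨hS, hW, hn, hcard, hh, (mk_fixed_iff h g).mp hq'h, fun hg => hgq1 ?_, fun w hwE hwh => ?_,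
        ?_, ⟨j, hhj⟩, hcase⟩
      · rw [QuotientGroup.eq, mul_one, inv_mem_iff]; exact hg
      · exact (mk_fixed_iff w g).mp ((hfixall w hwE _ hq's).mpr (hw w hwE hwh))
      · obtain ⟨e, he, hne'⟩ := honly _ hgq1
        exact ⟨e, he, fun hc => hne' ((mk_fixed_iff e g).mpr hc)⟩
    haveI := normal_of_z (A := E ⊓ Subgroup.map (MulEquiv.toMonoidHom (MulAut.conj g)) H) hS hL.z_mem
    haveI : Fintype (E ⧸ (E ⊓ Subgroup.map (MulEquiv.toMonoidHom (MulAut.conj g)) H).subgroupOf E) :=
      Fintype.ofFinite _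
    let Φ : E ⧸ (E ⊓ Subgroup.map (MulEquiv.toMonoidHom (MulAut.conj g)) H).subgroupOf E → G ⧸ H := fun c =>
      Quotient.liftOn' c (fun e : E => (((e : G) * g : G) : G ⧸ H)) fun a b hab => by
        rw [QuotientGroup.leftRel_apply, mem_subgroupOf] at hab
        rw [QuotientGroup.eq]
        have := mem_map_conj.mp hab.2
        simp only [Subgroup.coe_mul, Subgroup.coe_inv] at this
        convert this using 1
        group
    have hΦ : ∀ e : E, Φ e = (((e : G) * g : G) : G ⧸ H) := fun e => rfl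
    have key := hL.orbit_prod (fun c => f (Φ c)) (fun e => by
      rw [hΦ, hf]
      congr 1
      group)
    refine Eq.trans (Finset.prod_bij (fun c _ => Φ c) (fun c _ => ?_) (fun a _ b _ hab => ?_)
      (fun x hx => ?_) (fun c _ => rfl)).symm key
    · induction c using QuotientGroup.induction_on with
      | _ e => rw [hΦ]; exact hsmul e e.2 _ hq's
    · induction a using QuotientGroup.induction_on with
      | _ a =>
      induction b using QuotientGroup.induction_on with
      | _ b =>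
        rw [hΦ, hΦ, QuotientGroup.eq] at hab
        rw [QuotientGroup.eq, mem_subgroupOf]
        refine mem_inf.mpr ⟨SetLike.coe_mem _, mem_map_conj.mpr ?_⟩
        simp only [Subgroup.coe_mul, Subgroup.coe_inv]
        convert hab using 1
        group
    · obtain ⟨e, he, rfl⟩ := (hmem x).mp hx
      refine ⟨((⟨e * e₁⁻¹, mul_mem he (inv_mem he₁)⟩ : E) : _), Finset.mem_univ _, ?_⟩
      rw [hΦ]
      show (e * e₁⁻¹) • ((g : G) : G ⧸ H) = e • q
      rw [← he₁q, smul_smul, inv_mul_cancel_right]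
  haveI : Fintype (Quotient (orbitRel E (G ⧸ H))) := Fintype.ofFinite _
  have hprod : ∏ x ∈ Finset.univ.erase q1, f x = 1 := by
    rw [← Finset.prod_fiberwise_of_maps_to (s := Finset.univ.erase q1)
      (g := fun x => (⟦x⟧ : Quotient (orbitRel E (G ⧸ H)))) (t := Finset.univ) (fun x _ => Finset.mem_univ _) f]
    refine Finset.prod_eq_one fun o _ => ?_
    rcases Finset.eq_empty_or_nonempty
      ((Finset.univ.erase q1).filter fun x => (⟦x⟧ : Quotient (orbitRel E (G ⧸ H))) = o) with he | ⟨q, hq⟩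
    · rw [he, Finset.prod_empty]
    obtain ⟨hq1, hqo⟩ := Finset.mem_filter.mp hq
    rw [← horbit q (Finset.mem_erase.mp hq1).1]
    refine Finset.prod_congr ?_ fun _ _ => rfl
    ext x
    simp only [Finset.mem_filter, Finset.mem_erase, Finset.mem_univ, and_true, true_and]
    constructor
    · rintro ⟨-, hx⟩
      obtain ⟨⟨e, he⟩, hex⟩ := orbitRel_apply.mp (Quotient.exact (hx.trans hqo.symm))
      exact ⟨e, he, hex⟩
    · rintro ⟨e, he, rfl⟩
      exact ⟨hne1 q (Finset.mem_erase.mp hq1).1 e he,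
        (Quotient.sound (orbitRel_apply.mpr ⟨⟨e, he⟩, rfl⟩)).trans hqo⟩
  have h1 := transfer_eq_prod_fixed μ h f hf hbig
  rw [h1, ← Finset.mul_prod_erase Finset.univ f (Finset.mem_univ q1), hprod, mul_one,
    show f q1 = lam μ (1⁻¹ * h * 1) from rfl, inv_one, one_mul, mul_one]

/-- Some element outside the kernel of a sign keeps its sign under transfer. -/
theorem exists_transfer_eq_lam [Finite G] (hS : Setting H E z) (hW : WC E z) (n : ℕ) (hn : 3 ≤ n)
    (hcard : Nat.card E = 2 ^ (2 * n + 1)) (μ : H →* ℤˣ) (hne : ∃ x : H, μ x ≠ 1) :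
    ∃ h ∈ H, lam μ h ≠ 1 ∧ MonoidHom.transfer μ h = lam μ h := by
  classical
  obtain ⟨h, hh, j, hj1, hhj, hμ, hmin⟩ := exists_min_element hne
  have hbig : ∀ g : G, ∀ r, 2 ≤ r → r ∣ orderOf h → g⁻¹ * h ^ r * g ∈ H →
      lam μ (g⁻¹ * h ^ r * g) = 1 := by
    intro g r hr hrd hmem
    obtain ⟨i, -, rfl⟩ := (Nat.dvd_prime_pow Nat.prime_two).mp (hrd.trans (orderOf_dvd_of_pow_eq_one hhj))
    have hi : 1 ≤ i := by
      by_contra h0
      rw [show i = 0 by omega, pow_zero] at hr
      omega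
    refine hmin (j - 1) (by omega) _ hmem ?_
    have h1 : (g⁻¹ * h ^ 2 ^ i * g) ^ 2 ^ (j - 1) = g⁻¹ * (h ^ 2 ^ i) ^ 2 ^ (j - 1) * g := by
      simpa using conj_pow (a := g⁻¹) (b := h ^ 2 ^ i) (i := 2 ^ (j - 1))
    rw [h1, ← pow_mul, ← pow_add, show i + (j - 1) = (i - 1) + j by omega, pow_add, mul_comm, pow_mul, hhj,
      one_pow, mul_one, inv_mul_cancel]
  refine ⟨h, hh, hμ, transfer_eq_lam hS hW n hn hcard μ hh hhj hbig ?_⟩
  rcases Nat.lt_or_ge j 2 with h2 | h2
  · left
    rw [show j = 1 by omega, pow_one, pow_two] at hhj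
    exact hhj
  · right
    refine ⟨fun x hx hx2 => hmin 1 (by omega) x hx (by rw [pow_one, pow_two, hx2]), fun x hx hx4 hxl => ?_⟩
    have hj2 : j = 2 := by
      by_contra hc
      exact hxl (hmin 2 (by omega) x hx hx4)
    rw [hj2] at hhj
    exact hhj

theorem false_of_wc [Finite G] (hres : Cfsg.pResidual 2 G = ⊤) (hS : Setting H E z) (hW : WC E z) (n : ℕ)
    (hn : 3 ≤ n) (hcard : Nat.card E = 2 ^ (2 * n + 1)) (μ : H →* ℤˣ) (hne : ∃ x : H, μ x ≠ 1) : False := by
  obtain ⟨h, -, hμ, he⟩ := exists_transfer_eq_lam hS hW n hn hcard μ hne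
  exact hμ (he.symm.trans (hom_eq_one hres _ _))

end Cfsg.Agent.WCIndexTwo
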