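import Cfsg.Agent.EqLemmas
import Cfsg.Agent.Lib.LargeExtraspecial.IndexTwo

/-!
# An extraspecial subgroup normal in the centralizer of its centre

* `Setting.conjugate`, `WC` : transport to conjugates, weak closure of the centre
* commutator calculus inside `E`
* `card_cent`, `cent_cent` : duality for subgroups of `E` containing `z`
-/

set_option autoImplicit false
open scoped commutatorElement

namespace Cfsg.Agent.WCIndexTwo

open Subgroup LargeExtraspecial.TransferFixed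

variable {G : Type*} [Group G] {H E : Subgroup G} {z : G}

/-- `z` is the only conjugate of `z` in `E`. -/
def WC (E : Subgroup G) (z : G) : Prop := ∀ g : G, g * z * g⁻¹ ∈ E → g * z * g⁻¹ = z

theorem mem_map_conj {g x : G} {U : Subgroup G} :
    x ∈ U.map (MulAut.conj g).toMonoidHom ↔ g⁻¹ * x * g ∈ U := by
  constructor
  · rintro ⟨q, hq, rfl⟩; simpa [mul_assoc] using hq
  · intro h; exact ⟨g⁻¹ * x * g, h, by simp [mul_assoc]⟩

theorem setting_conjugate (hS : Setting H E z) (g : G) :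
    Setting (H.map (MulAut.conj g).toMonoidHom) (E.map (MulAut.conj g).toMonoidHom) (g * z * g⁻¹) := by
  refine ⟨map_mono hS.hEH, fun x => ?_, fun c hc e he => ?_, ⟨z, hS.zE, rfl⟩, ?_,
    fun h => hS.z1 (conj_eq_one_iff.mp h), ?_, ?_, ?_, ?_, hS.isP.map _⟩
  · rw [mem_map_conj, hS.hH]
    constructor
    · intro h
      calc x * (g * z * g⁻¹) = g * (g⁻¹ * x * g * z) * g⁻¹ := by group
        _ = _ := by rw [h]; group
    · intro h
      calc g⁻¹ * x * g * z = g⁻¹ * (x * (g * z * g⁻¹)) * g := by group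
        _ = _ := by rw [h]; group
  · rw [mem_map_conj] at hc he ⊢
    have := hS.hnorm _ hc _ he
    convert this using 1; group
  · calc g * z * g⁻¹ * (g * z * g⁻¹) = g * (z * z) * g⁻¹ := by group
      _ = 1 := by rw [hS.z2]; group
  · rintro _ ⟨a, ha, rfl⟩ _ ⟨b, hb, rfl⟩
    rw [← map_mul, ← map_mul]
    rcases hS.comm a ha b hb with h | h
    · left; rw [h]
    · right; rw [h, map_mul]; rfl
  · rintro _ ⟨a, ha, rfl⟩
    rw [← map_mul]
    rcases hS.sq a ha with h | h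
    · left; rw [h, map_one]
    · right; rw [h]; rfl
  · intro x hx
    rw [mem_map_conj]
    refine hS.self (mem_centralizer_iff.mpr fun e he => ?_)
    have := mem_centralizer_iff.mp hx (g * e * g⁻¹) ⟨e, he, rfl⟩
    calc e * (g⁻¹ * x * g) = g⁻¹ * (g * e * g⁻¹ * x) * g := by group
      _ = _ := by rw [this]; group
  · intro x hx hc
    rw [mem_map_conj] at hx
    refine (hS.cen _ hx fun y hy => ?_).imp (fun h => ?_) (fun h => ?_)
    · have := hc (g * y * g⁻¹) ⟨y, hy, rfl⟩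
      calc g⁻¹ * x * g * y = g⁻¹ * (x * (g * y * g⁻¹)) * g := by group
        _ = _ := by rw [this]; group
    · calc x = g * (g⁻¹ * x * g) * g⁻¹ := by group
        _ = 1 := by rw [h]; group
    · calc x = g * (g⁻¹ * x * g) * g⁻¹ := by group
        _ = _ := by rw [h]

theorem WC.conjugate (hW : WC E z) (g : G) :
    WC (E.map (MulAut.conj g).toMonoidHom) (g * z * g⁻¹) := fun k hk => by
  rw [mem_map_conj] at hk
  have e : g⁻¹ * (k * (g * z * g⁻¹) * k⁻¹) * g = (g⁻¹ * k * g) * z * (g⁻¹ * k * g)⁻¹ := by group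
  rw [e] at hk
  have := hW _ hk
  calc k * (g * z * g⁻¹) * k⁻¹ = g * ((g⁻¹ * k * g) * z * (g⁻¹ * k * g)⁻¹) * g⁻¹ := by group
    _ = _ := by rw [this]

theorem WC.eq_of_mem (hW : WC E z) {f x : G} (he : f⁻¹ * z * f = x) (hx : x ∈ E) : x = z := by
  subst he
  simpa using hW f⁻¹ (by simpa using hx)

section calc'

variable (hS : Setting H E z)
include hS

theorem zc {e : G} (he : e ∈ E) : e * z = z * e := (hS.hH e).mp (hS.hEH he)

theorem zH : z ∈ H := hS.hEH hS.zE

theorem com_cases {a b : G} (ha : a ∈ E) (hb : b ∈ E) : ⁅a, b⁆ = 1 ∨ ⁅a, b⁆ = z := by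
  rcases hS.comm a ha b hb with h | h
  · exact .inl (commutatorElement_eq_one_iff_mul_comm.mpr h)
  · right
    calc ⁅a, b⁆ = a * b * a⁻¹ * b⁻¹ := commutatorElement_def a b
      _ = b * a * z * a⁻¹ * b⁻¹ := by rw [h]
      _ = z * (b * a) * a⁻¹ * b⁻¹ := by rw [zc hS (mul_mem hb ha)]
      _ = z := by group

theorem com_sq {a b : G} (ha : a ∈ E) (hb : b ∈ E) : ⁅a, b⁆ * ⁅a, b⁆ = 1 := by
  rcases com_cases hS ha hb with h | h <;> rw [h]
  · rw [mul_one]
  · exact hS.z2

theorem com_symm {a b : G} (ha : a ∈ E) (hb : b ∈ E) : ⁅b, a⁆ = ⁅a, b⁆ := by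
  rw [← commutatorElement_inv, inv_eq_of_mul_eq_one_right (com_sq hS ha hb)]

theorem com_central {a b x : G} (ha : a ∈ E) (hb : b ∈ E) (hx : x ∈ E) :
    x * ⁅a, b⁆ = ⁅a, b⁆ * x := by
  rcases com_cases hS ha hb with h | h <;> rw [h]
  · simp
  · exact zc hS hx

theorem com_mul_left {a b q : G} (ha : a ∈ E) (hb : b ∈ E) (hq : q ∈ E) :
    ⁅a * b, q⁆ = ⁅a, q⁆ * ⁅b, q⁆ := by
  have h1 : ⁅a * b, q⁆ = a * ⁅b, q⁆ * a⁻¹ * ⁅a, q⁆ := by simp only [commutatorElement_def]; group
  have hm : ⁅b, q⁆ ∈ E := by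
    rw [commutatorElement_def]; exact mul_mem (mul_mem (mul_mem hb hq) (inv_mem hb)) (inv_mem hq)
  rw [h1, com_central hS hb hq ha, mul_inv_cancel_right, com_central hS ha hq hm]

theorem com_mul_right {a b q : G} (ha : a ∈ E) (hb : b ∈ E) (hq : q ∈ E) :
    ⁅q, a * b⁆ = ⁅q, a⁆ * ⁅q, b⁆ := by
  rw [com_symm hS (mul_mem ha hb) hq, com_mul_left hS ha hb hq, com_symm hS hq ha, com_symm hS hq hb]

theorem com_inv_left {a q : G} (ha : a ∈ E) (hq : q ∈ E) : ⁅a⁻¹, q⁆ = ⁅a, q⁆ := by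
  have h := com_mul_left hS (inv_mem ha) ha hq
  rw [inv_mul_cancel, commutatorElement_one_left] at h
  calc ⁅a⁻¹, q⁆ = ⁅a⁻¹, q⁆ * (⁅a, q⁆ * ⁅a, q⁆) := by rw [com_sq hS ha hq, mul_one]
    _ = _ := by rw [← mul_assoc, ← h, one_mul]

theorem com_inv_right {a q : G} (ha : a ∈ E) (hq : q ∈ E) : ⁅q, a⁻¹⁆ = ⁅q, a⁆ := by
  rw [com_symm hS (inv_mem ha) hq, com_inv_left hS ha hq, com_symm hS hq ha]

theorem com_conj {t a b : G} (ht : t ∈ H) (ha : a ∈ E) (hb : b ∈ E) :
    ⁅t * a * t⁻¹, t * b * t⁻¹⁆ = ⁅a, b⁆ := by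
  have e : ⁅t * a * t⁻¹, t * b * t⁻¹⁆ = t * ⁅a, b⁆ * t⁻¹ := by simp only [commutatorElement_def]; group
  rw [e]
  rcases com_cases hS ha hb with h | h <;> rw [h]
  · group
  · rw [(hS.hH t).mp ht, mul_inv_cancel_right]

theorem mul_mem_comm {a b : G} (h : ⁅a, b⁆ = 1) : a * b = b * a :=
  commutatorElement_eq_one_iff_mul_comm.mp h

theorem card_zpowers : Nat.card (zpowers z) = 2 := by
  haveI : Fact (Nat.Prime 2) := ⟨Nat.prime_two⟩
  rw [Nat.card_zpowers]
  exact orderOf_eq_prime (by rw [pow_two, hS.z2]) hS.z1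

variable [Finite G]

/-- Duality inside `E`. -/
theorem card_cent {X : Subgroup G} (hX : X ≤ E) (hzX : z ∈ X) :
    Nat.card ↥(E ⊓ centralizer (X : Set G)) * Nat.card X = 2 * Nat.card E := by
  haveI : Fact (Nat.Prime 2) := ⟨Nat.prime_two⟩
  have hK := card_zpowers hS
  have h := Extraspecial.relIndex_centralizer_eq E X (zpowers z) hK
    (fun k hk g hg => by
      rw [sup_of_le_left hX] at hg
      obtain ⟨i, rfl⟩ := mem_zpowers_iff.mp hk
      exact ((show Commute g z from zc hS hg).zpow_right i).symm.eq)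
    (fun a ha b hb => by
      rcases com_cases hS ha (hX hb) with h | h <;> rw [h]
      · exact one_mem _
      · exact mem_zpowers z)
  have hXz : X ⊓ centralizer (E : Set G) = zpowers z := by
    refine le_antisymm (fun x hx => ?_) (zpowers_le.mpr ⟨hzX, mem_centralizer_iff.mpr fun e he => zc hS he⟩)
    rcases hS.cen x (hX hx.1) (fun y hy => (mem_centralizer_iff.mp hx.2 y hy).symm) with rfl | rfl
    · exact one_mem _
    · exact mem_zpowers x
  rw [hXz] at h
  have e1 := card_mul_index ((E ⊓ centralizer (X : Set G)).subgroupOf E)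
  have e2 := card_mul_index ((zpowers z).subgroupOf X)
  rw [Nat.card_congr (subgroupOfEquivOfLe inf_le_left).toEquiv] at e1
  rw [Nat.card_congr (subgroupOfEquivOfLe (zpowers_le.mpr hzX)).toEquiv, hK] at e2
  unfold Subgroup.relIndex at h
  rw [h] at e1
  rw [← e2, ← e1]
  ring

theorem cent_cent {X : Subgroup G} (hX : X ≤ E) (hzX : z ∈ X) :
    E ⊓ centralizer ((E ⊓ centralizer (X : Set G) : Subgroup G) : Set G) = X := by
  have hzC : z ∈ E ⊓ centralizer (X : Set G) :=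
    ⟨hS.zE, mem_centralizer_iff.mpr fun e he => zc hS (hX he)⟩
  refine (eq_of_le_of_card_ge ?_ ?_).symm
  · exact fun x hx => ⟨hX hx, mem_centralizer_iff.mpr fun c hc => (mem_centralizer_iff.mp hc.2 x hx).symm⟩
  · have h1 := card_cent hS hX hzX
    have h2 := card_cent hS (X := E ⊓ centralizer (X : Set G)) inf_le_left hzC
    rw [← h1, mul_comm (Nat.card ↥(E ⊓ centralizer (X : Set G))) (Nat.card X)] at h2
    exact (Nat.eq_of_mul_eq_mul_right Nat.card_pos h2).le

end calc'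

end Cfsg.Agent.WCIndexTwo
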