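import Cfsg.Agent.Lib.WCIndexTwo.Basic

/-!
# Elementary abelian quotients of `E` and the endomorphism given by an element of `H`

* `prod_quad` : a product of signs given by a quadratic form is `1`
* `Psi` : the endomorphism `e ↦ [h, e]` of `E ⧸ A`, `psi_iterate`
* facts for an involution `h`
-/

set_option autoImplicit false
open scoped commutatorElement

namespace Cfsg.Agent.WCIndexTwo

open Subgroup LargeExtraspecial.TransferFixed

section quad

variable {Q : Type*} [Group Q] [Fintype Q]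

open Classical in
theorem prod_pairs {u : Q} (hu1 : u ≠ 1) (hu : u * u = 1) (f : Q → ℤˣ)
    [Fintype (Q ⧸ zpowers u)] :
    ∏ x, f x = ∏ q : Q ⧸ zpowers u, f q.out * f (q.out * u) := by
  refine (Finset.prod_fiberwise_of_maps_to (s := Finset.univ)
    (g := fun x : Q => (x : Q ⧸ zpowers u)) (t := Finset.univ) (fun x _ => Finset.mem_univ _) f).symm.trans ?_
  refine Finset.prod_congr rfl fun q _ => ?_
  have hset : (Finset.univ.filter fun x => ((x : Q) : Q ⧸ zpowers u) = q) = {q.out, q.out * u} := by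
    ext x
    simp only [Finset.mem_filter, Finset.mem_univ, true_and, Finset.mem_insert, Finset.mem_singleton]
    constructor
    · intro hx
      have h := (QuotientGroup.out_eq' q).trans hx.symm
      rw [QuotientGroup.eq] at h
      obtain ⟨n, hn⟩ := mem_zpowers_iff.mp h
      have hu2 : u ^ (2 : ℤ) = 1 := by rw [zpow_ofNat, sq, hu]
      rcases Int.even_or_odd n with ⟨m, rfl⟩ | ⟨m, rfl⟩
      · left
        rw [← two_mul, zpow_mul, hu2, one_zpow] at hn
        exact (inv_mul_eq_one.mp hn.symm).symm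
      · right
        rw [zpow_add, zpow_mul, hu2, one_zpow, one_mul, zpow_one] at hn
        exact (inv_mul_eq_iff_eq_mul.mp hn.symm)
    · rintro (rfl | rfl)
      · exact QuotientGroup.out_eq' q
      · rw [QuotientGroup.mk_mul_of_mem _ (mem_zpowers u)]
        exact QuotientGroup.out_eq' q
  have hne : q.out ≠ q.out * u := fun h => hu1 (mul_eq_left.mp h.symm)
  rw [hset, Finset.prod_pair hne]

theorem card_two_dvd {x : Q} (hx : x ≠ 1) (h : x * x = 1) : 2 ∣ Nat.card Q := by
  haveI : Fact (Nat.Prime 2) := ⟨Nat.prime_two⟩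
  have h2 := orderOf_dvd_natCard x
  rwa [orderOf_eq_prime (x := x) (by rw [pow_two, h]) hx] at h2

theorem pow_card_even {x : Q} (hx : x ≠ 1) (h : x * x = 1) (c : ℤˣ) : c ^ Fintype.card Q = 1 := by
  obtain ⟨k, hk⟩ := card_two_dvd hx h
  rw [← Nat.card_eq_fintype_card, hk, pow_mul, Int.units_sq, one_pow]

/-- The product of the values of a quadratic form with signs. -/
theorem prod_quad (hQ : ∀ x : Q, x * x = 1) (hne : ∃ x : Q, x ≠ 1) (G' : Q → ℤˣ) (β : Q → Q → ℤˣ)
    (hβl : ∀ x y w, β (x * y) w = β x w * β y w) (hG : ∀ x y, G' (x * y) = G' x * G' y * β x y)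
    (hcase : 8 ≤ Nat.card Q ∨ (∀ x y, β x y = 1) ∧ 4 ≤ Nat.card Q ∨ ∀ x, G' x = 1) (c : ℤˣ) :
    ∏ x, c * G' x = 1 := by
  classical
  obtain ⟨u, hu⟩ := hne
  have hc : c ^ Fintype.card Q = 1 := pow_card_even hu (hQ u) c
  rw [Finset.prod_mul_distrib, Finset.prod_const, Finset.card_univ, hc, one_mul]
  by_cases hG1 : ∀ x, G' x = 1
  · exact Finset.prod_eq_one fun x _ => hG1 x
  have hcard : 4 ≤ Nat.card Q := by
    rcases hcase with h | h | h
    · omega
    · exact h.2
    · exact absurd h hG1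
  haveI : IsMulCommutative Q := ⟨⟨fun x y => by
    have := hQ (x * y)
    calc x * y = x * (x * y * (x * y)) * y := by rw [this, mul_one]
      _ = x * x * (y * x) * (y * y) := by group
      _ = y * x := by rw [hQ, hQ, one_mul, mul_one]⟩⟩
  haveI : (zpowers u).Normal := Subgroup.normal_of_isMulCommutative _
  haveI : Fintype (Q ⧸ zpowers u) := Fintype.ofFinite _
  have hQ' : ∀ q : Q ⧸ zpowers u, q * q = 1 := fun q => by
    induction q using QuotientGroup.induction_on with
    | _ x => rw [← QuotientGroup.mk_mul, hQ]; rfl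
  have hz : Nat.card (zpowers u) = 2 := by
    haveI : Fact (Nat.Prime 2) := ⟨Nat.prime_two⟩
    rw [Nat.card_zpowers, orderOf_eq_prime (by rw [pow_two, hQ]) hu]
  have hc2 := card_eq_card_quotient_mul_card_subgroup (zpowers u)
  rw [hz] at hc2
  obtain ⟨v', hv'⟩ : ∃ q : Q ⧸ zpowers u, q ≠ 1 := by
    by_contra h
    push Not at h
    haveI : Subsingleton (Q ⧸ zpowers u) := ⟨fun a b => (h a).trans (h b).symm⟩
    rw [Nat.card_of_subsingleton (1 : Q ⧸ zpowers u)] at hc2
    omega
  rw [prod_pairs hu (hQ u)]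
  have hF : ∀ x, G' x * G' (x * u) = G' u * β x u := fun x => by
    rw [hG, ← mul_assoc, ← mul_assoc, ← pow_two, Int.units_sq, one_mul]
  simp only [hF]
  haveI : IsMulCommutative (Q ⧸ zpowers u) := ⟨⟨fun x y => by
    induction x using QuotientGroup.induction_on with
    | _ x =>
      induction y using QuotientGroup.induction_on with
      | _ y => rw [← QuotientGroup.mk_mul, ← QuotientGroup.mk_mul, IsMulCommutative.is_comm.comm x y]⟩⟩
  haveI : (zpowers v').Normal := Subgroup.normal_of_isMulCommutative _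
  haveI : Fintype ((Q ⧸ zpowers u) ⧸ zpowers v') := Fintype.ofFinite _
  rw [prod_pairs hv' (hQ' v')]
  have hwd : ∀ x w : Q, w ∈ zpowers u → β (x * w) u = β x u * β w u := fun x w _ => hβl x w u
  have hw1 : ∀ w ∈ zpowers u, β w u = β u u ∨ β w u = 1 := by
    intro w hw
    obtain ⟨n, rfl⟩ := mem_zpowers_iff.mp hw
    have hu2 : u ^ (2 : ℤ) = 1 := by rw [zpow_ofNat, sq, hQ]
    rcases Int.even_or_odd n with ⟨m, rfl⟩ | ⟨m, rfl⟩
    · right
      rw [← two_mul, zpow_mul, hu2, one_zpow]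
      have := hβl 1 1 u
      rw [mul_one] at this
      exact mul_eq_left.mp this.symm
    · left
      rw [zpow_add, zpow_mul, hu2, one_zpow, one_mul, zpow_one]
  have huu : β u u = 1 := by
    have h := hG u u
    have h1 := hG 1 1
    have hb1 : β 1 1 = 1 := by
      have := hβl 1 1 1
      rw [mul_one] at this
      exact mul_eq_left.mp this.symm
    rw [mul_one, hb1, mul_one] at h1
    rw [hQ u, ← pow_two, Int.units_sq, one_mul, mul_eq_left.mp h1.symm] at h
    exact h.symm
  have hwell : ∀ x : Q, β (Quotient.out (x : Q ⧸ zpowers u)) u = β x u := by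
    intro x
    have hm : x⁻¹ * Quotient.out (x : Q ⧸ zpowers u) ∈ zpowers u :=
      QuotientGroup.eq.mp (QuotientGroup.out_eq' (x : Q ⧸ zpowers u)).symm
    conv_lhs => rw [show Quotient.out (x : Q ⧸ zpowers u) = x * (x⁻¹ * Quotient.out (x : Q ⧸ zpowers u)) by group]
    rw [hβl]
    rcases hw1 _ hm with h | h <;> rw [h]
    · rw [huu, mul_one]
    · rw [mul_one]
  have hconst : ∀ q : (Q ⧸ zpowers u) ⧸ zpowers v',
      G' u * β q.out.out u * (G' u * β (q.out * v').out u) = β v'.out u := by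
    intro q
    have e : q.out * v' = ((q.out.out * v'.out : Q) : Q ⧸ zpowers u) := by
      rw [QuotientGroup.mk_mul, QuotientGroup.out_eq', QuotientGroup.out_eq']
    rw [e, hwell, hβl, mul_mul_mul_comm, ← pow_two, Int.units_sq, one_mul, ← mul_assoc, ← pow_two,
      Int.units_sq, one_mul]
  simp only [hconst, Finset.prod_const, Finset.card_univ]
  rcases hcase with h | h | h
  · have hz' : Nat.card (zpowers v') = 2 := by
      haveI : Fact (Nat.Prime 2) := ⟨Nat.prime_two⟩
      rw [Nat.card_zpowers, orderOf_eq_prime (by rw [pow_two, hQ']) hv']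
    have hc4 := card_eq_card_quotient_mul_card_subgroup (zpowers v')
    rw [hz'] at hc4
    obtain ⟨w, hw⟩ : ∃ q : (Q ⧸ zpowers u) ⧸ zpowers v', q ≠ 1 := by
      by_contra h'
      push Not at h'
      haveI : Subsingleton ((Q ⧸ zpowers u) ⧸ zpowers v') := ⟨fun a b => (h' a).trans (h' b).symm⟩
      rw [Nat.card_of_subsingleton (1 : (Q ⧸ zpowers u) ⧸ zpowers v')] at hc4
      omega
    refine pow_card_even hw ?_ _
    induction w using QuotientGroup.induction_on with
    | _ x => rw [← QuotientGroup.mk_mul, hQ']; rfl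
  · rw [h.1]; exact one_pow _
  · exact absurd h hG1

end quad

section psi

variable {G : Type*} [Group G] {H E : Subgroup G} {z : G}

theorem eps_mem (hS : Setting H E z) {h y : G} (hh : h ∈ H) (hy : y ∈ E) : eps h y ∈ E := by
  have := hS.hnorm h⁻¹ (inv_mem hh) y⁻¹ (inv_mem hy)
  rw [inv_inv] at this
  exact mul_mem this hy

/-- `eps h (x y) = eps h y * eps h x` up to `z`. -/
theorem eps_mul (hS : Setting H E z) {h x y : G} (hh : h ∈ H) (hx : x ∈ E) (hy : y ∈ E) :
    eps h (x * y) = eps h y * eps h x * ⁅eps h x, y⁆ := by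
  have hd := eps_mem hS hh hx
  rw [← com_symm hS hd hy, commutatorElement_def]
  have hc : y * eps h x * y⁻¹ * (eps h x)⁻¹ = (eps h x)⁻¹ * (y⁻¹ * eps h x * y) := by
    have h1 := com_inv_left hS hy hd
    rw [commutatorElement_def, commutatorElement_def, inv_inv] at h1
    have h2 := com_central hS hy hd (inv_mem hd)
    rw [commutatorElement_def] at h2
    calc y * eps h x * y⁻¹ * (eps h x)⁻¹ = y⁻¹ * eps h x * y * (eps h x)⁻¹ := h1.symm
      _ = (eps h x)⁻¹ * (eps h x) * (y⁻¹ * eps h x * y * (eps h x)⁻¹) := by group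
      _ = (eps h x)⁻¹ * ((y⁻¹ * eps h x * y * (eps h x)⁻¹) * eps h x) := by
          rw [mul_assoc _ (eps h x)]
          congr 1
          rw [h1]
          exact com_central hS hy hd hd
      _ = _ := by group
  rw [hc]
  simp only [eps]; group

variable {A : Subgroup G}

/-- A normal subgroup of `E` containing `z`. -/
theorem normal_of_z (hS : Setting H E z) (hzA : z ∈ A) : (A.subgroupOf E).Normal := by
  refine ⟨fun n hn x => ?_⟩
  rw [mem_subgroupOf] at hn ⊢
  show (x : G) * n * (x : G)⁻¹ ∈ A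
  have e : (x : G) * n * (x : G)⁻¹ = ⁅(x : G), (n : G)⁆ * n := by rw [commutatorElement_def]; group
  rw [e]
  rcases com_cases hS x.2 n.2 with h | h <;> rw [h]
  · rwa [one_mul]
  · exact mul_mem hzA hn

theorem quot_sq (hS : Setting H E z) (hzA : z ∈ A) [(A.subgroupOf E).Normal]
    (q : E ⧸ A.subgroupOf E) : q * q = 1 := by
  induction q using QuotientGroup.induction_on with
  | _ x =>
    rw [← QuotientGroup.mk_mul, QuotientGroup.eq_one_iff, mem_subgroupOf]
    rcases hS.sq x x.2 with h | h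
    · show (x : G) * x ∈ A; rw [h]; exact one_mem A
    · show (x : G) * x ∈ A; rw [h]; exact hzA

theorem quot_mul (hS : Setting H E z) (hzA : z ∈ A) [(A.subgroupOf E).Normal] {x y : G}
    (hx : x ∈ E) (hy : y ∈ E) :
    (((⟨x, hx⟩ : E) * ⟨y, hy⟩ : E) : E ⧸ A.subgroupOf E) = ((⟨y, hy⟩ * ⟨x, hx⟩ : E)) := by
  rw [QuotientGroup.eq, mem_subgroupOf]
  show (x * y)⁻¹ * (y * x) ∈ A
  have e : (x * y)⁻¹ * (y * x) = ⁅y⁻¹, x⁻¹⁆ := by rw [commutatorElement_def]; group
  rw [e]
  rcases com_cases hS (inv_mem hy) (inv_mem hx) with h | h <;> rw [h]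
  · exact one_mem A
  · exact hzA

variable (hS : Setting H E z) (hzA : z ∈ A) {h : G} (hh : h ∈ H)
  (hA : ∀ x ∈ E, x ∈ A → eps h x ∈ A)

/-- The endomorphism of `E ⧸ A` induced by `e ↦ eps h e`. -/
def Psi [(A.subgroupOf E).Normal] : E ⧸ A.subgroupOf E →* E ⧸ A.subgroupOf E :=
  QuotientGroup.lift _ (MonoidHom.mk'
    (fun x => ((⟨eps h x, eps_mem hS hh x.2⟩ : E) : E ⧸ A.subgroupOf E)) (fun x y => by
      rw [← QuotientGroup.mk_mul]
      refine Eq.trans ?_ (quot_mul hS hzA (eps_mem hS hh y.2) (eps_mem hS hh x.2))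
      rw [QuotientGroup.eq, mem_subgroupOf]
      show (eps h ((x : G) * y))⁻¹ * (eps h y * eps h x) ∈ A
      rw [eps_mul hS hh x.2 y.2]
      have : (eps h (y : G) * eps h x * ⁅eps h (x : G), (y : G)⁆)⁻¹ * (eps h y * eps h x)
          = ⁅eps h (x : G), (y : G)⁆⁻¹ := by group
      rw [this]
      rcases com_cases hS (eps_mem hS hh x.2) y.2 with h' | h' <;> rw [h']
      · simp
      · exact inv_mem hzA))
    (fun x hx => by
      rw [MonoidHom.mem_ker, MonoidHom.mk'_apply, QuotientGroup.eq_one_iff, mem_subgroupOf]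
      exact hA x x.2 hx)

variable [(A.subgroupOf E).Normal]

theorem Psi_mk (x : E) : Psi hS hzA hh hA (x : E ⧸ A.subgroupOf E) =
    ((⟨eps h x, eps_mem hS hh x.2⟩ : E) : E ⧸ A.subgroupOf E) := rfl

theorem psi_iterate (j : ℕ) (x : E) :
    (Psi hS hzA hh hA)^[2 ^ j] (x : E ⧸ A.subgroupOf E) =
      ((⟨(h ^ 2 ^ j)⁻¹ * x * h ^ 2 ^ j, by
          simpa using hS.hnorm _ (inv_mem (pow_mem hh (2 ^ j))) x x.2⟩ : E) : E ⧸ A.subgroupOf E) * x := by
  induction j generalizing x with
  | zero =>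
    simp only [pow_zero, Function.iterate_one, pow_one, Psi_mk]
    rw [← QuotientGroup.mk_mul, QuotientGroup.eq, mem_subgroupOf]
    show (eps h (x : G))⁻¹ * (h⁻¹ * x * h * x) ∈ A
    have hm := hS.hnorm h⁻¹ (inv_mem hh) x x.2
    rw [inv_inv] at hm
    have e : (eps h (x : G))⁻¹ * (h⁻¹ * x * h * x) = (x : G)⁻¹ * ((h⁻¹ * x * h) * (h⁻¹ * x * h)) * x := by
      simp only [eps]; group
    rw [e]
    rcases hS.sq _ hm with h' | h' <;> rw [h']
    · rw [mul_one, inv_mul_cancel]; exact one_mem A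
    · rw [mul_assoc, ← zc hS x.2, inv_mul_cancel_left]; exact hzA
  | succ j ih =>
    rw [pow_succ, Function.iterate_mul, Function.iterate_succ_apply', Function.iterate_succ_apply',
      Function.iterate_zero_apply, ih x, ← QuotientGroup.mk_mul, ih, ← QuotientGroup.mk_mul,
      ← QuotientGroup.mk_mul, QuotientGroup.eq, mem_subgroupOf]
    set k := h ^ 2 ^ j
    have hk : k ∈ H := pow_mem hh _
    have hm := hS.hnorm k⁻¹ (inv_mem hk) x x.2
    rw [inv_inv] at hm
    show (k⁻¹ * (k⁻¹ * x * k * x) * k * (k⁻¹ * x * k * x))⁻¹ * ((h ^ (2 ^ j * 2))⁻¹ * x * h ^ (2 ^ j * 2) * x) ∈ A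
    rw [pow_mul, pow_two]
    have e : (k⁻¹ * (k⁻¹ * x * k * x) * k * (k⁻¹ * x * k * x))⁻¹ * ((k * k)⁻¹ * x * (k * k) * x) =
        (x : G)⁻¹ * ((k⁻¹ * x * k) * (k⁻¹ * x * k))⁻¹ * x := by group
    rw [e]
    rcases hS.sq _ hm with h' | h' <;> rw [h']
    · simp
    · rw [inv_eq_of_mul_eq_one_right hS.z2, mul_assoc, ← zc hS x.2, inv_mul_cancel_left]; exact hzA

theorem psi_iterate_eq_one {j : ℕ} (hj : h ^ 2 ^ j = 1) (q : E ⧸ A.subgroupOf E) :
    (Psi hS hzA hh hA)^[2 ^ j] q = 1 := by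
  induction q using QuotientGroup.induction_on with
  | _ x =>
    rw [psi_iterate]
    refine Eq.trans ?_ (quot_sq hS hzA ((x : E) : E ⧸ A.subgroupOf E))
    congr 2
    exact Subtype.ext (by simp [hj])

theorem psi_ker_ne_bot {j : ℕ} (hj : h ^ 2 ^ j = 1) {q : E ⧸ A.subgroupOf E} (hq : q ≠ 1) :
    (Psi hS hzA hh hA).ker ≠ ⊥ := by
  intro hbot
  have hinj := (Psi hS hzA hh hA).ker_eq_bot_iff.mp hbot
  apply hq
  refine (hinj.iterate (2 ^ j)) ?_
  rw [psi_iterate_eq_one hS hzA hh hA hj, psi_iterate_eq_one hS hzA hh hA hj]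

end psi

end Cfsg.Agent.WCIndexTwo
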