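import Cfsg.Agent.Lib.WCIndexTwo.Pair

/-!
# Nonabelian `C_E(a)`: the two parities agree on `C_E(a)`

`lam_eq` : for `a = g z g⁻¹` and `α ∈ C_E(a)` with `C_E(a)` nonabelian, `λ(g⁻¹ α g) = λ(α)`.
-/

set_option autoImplicit false
open scoped commutatorElement

namespace Cfsg.Agent.WCIndexTwo

open Subgroup LargeExtraspecial.TransferFixed

variable {G : Type*} [Group G]

theorem ncard_conjSet [Finite G] {H : Subgroup G} (N : Subgroup G) {z : G}
    (hH : ∀ g, g ∈ H ↔ g * z = z * g) :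
    {x : G | ∃ f ∈ N, f⁻¹ * z * f = x}.ncard = H.relIndex N := by
  rw [← Nat.card_coe_set_eq]
  unfold Subgroup.relIndex Subgroup.index
  refine (Nat.card_congr (Equiv.ofBijective (fun q : N ⧸ H.subgroupOf N => Quotient.liftOn' q
    (fun f => (⟨(f : G) * z * (f : G)⁻¹, (f : G)⁻¹, inv_mem f.2, by group⟩ :
      {x : G | ∃ f ∈ N, f⁻¹ * z * f = x})) ?_) ⟨?_, ?_⟩)).symm
  · intro x y hxy
    rw [QuotientGroup.leftRel_apply, mem_subgroupOf, hH, Subgroup.coe_mul, Subgroup.coe_inv] at hxy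
    apply Subtype.ext
    show (x : G) * z * (x : G)⁻¹ = y * z * (y : G)⁻¹
    calc (x : G) * z * (x : G)⁻¹ = x * (z * ((x : G)⁻¹ * y)) * (y : G)⁻¹ := by group
      _ = _ := by rw [← hxy]; group
  · intro p q h
    induction p using QuotientGroup.induction_on
    induction q using QuotientGroup.induction_on
    rename_i x y
    rw [QuotientGroup.eq, mem_subgroupOf, hH, Subgroup.coe_mul, Subgroup.coe_inv]
    have h' : (x : G) * z * (x : G)⁻¹ = y * z * (y : G)⁻¹ := congrArg Subtype.val h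
    calc (x : G)⁻¹ * y * z = (x : G)⁻¹ * (y * z * (y : G)⁻¹) * y := by group
      _ = _ := by rw [← h']; group
  · rintro ⟨_, f, hf, rfl⟩
    exact ⟨QuotientGroup.mk ⟨f⁻¹, inv_mem hf⟩, Subtype.ext (by simp [Quotient.liftOn'])⟩

variable {H E H' F : Subgroup G} {z a : G}

namespace Pair

variable (P : Pair H E z H' F a)
  {α₁ α₂ : G} (hα₁ : α₁ ∈ E ⊓ H') (hα₂ : α₂ ∈ E ⊓ H') (h12 : α₁ * α₂ = α₂ * α₁ * z)

include P hα₁ hα₂ h12

variable [Finite G]

theorem symm_args : ∃ β₁ ∈ F ⊓ H, ∃ β₂ ∈ F ⊓ H, β₁ * β₂ = β₂ * β₁ * a := P.nonab hα₁ hα₂ h12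

theorem gamma_cases {e : G} (he : e ∈ E) : dd a e = 1 ∨ dd a e * z ∈ E ⊓ F := by
  obtain ⟨b₁, hb₁, b₂, hb₂, hb⟩ := P.nonab hα₁ hα₂ h12
  set Dz := adj (F ⊓ E) z P.s1.z2 (fun _ hd => P.symm.d_comm_a hd) with hDz
  have hDzE : Dz ≤ E := by
    rintro x (hx | hx)
    · exact hx.2
    · exact (E.mul_mem_cancel_right P.s1.zE).mp hx.2
  have hA := P.symm.B_eq hb₁ hb₂ hb
  have hcc := cent_cent P.s1 hDzE (.inr (by rw [P.s1.z2]; exact one_mem _))
  rw [← hA] at hcc
  have hm : dd a e ∈ Dz := hcc ▸ mem_inf.mpr ⟨dd_mem P.s1 P.aH he, mem_centralizer_iff.mpr fun α hα =>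
    (mul_mem_comm P.s1 (P.symm.gamma_comm he hα)).symm⟩
  rcases hm with hm | hm
  · left
    have e1 : e⁻¹ * a * e = dd a e * a := by simp [dd, mul_assoc]
    have := P.w2.eq_of_mem e1 (mul_mem hm.1 P.s2.zE)
    exact mul_eq_right.mp this
  · exact .inr ⟨hm.2, hm.1⟩

theorem gamma_sq {e : G} (he : e ∈ E) : dd a e * dd a e = 1 := by
  rcases P.gamma_cases hα₁ hα₂ h12 he with h | h
  · rw [h, mul_one]
  · have h2 := P.d_sq h
    have hc := zc P.s1 (dd_mem P.s1 P.aH he)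
    calc dd a e * dd a e = dd a e * (z * z) * dd a e := by rw [P.s1.z2, mul_one]
      _ = dd a e * z * (z * dd a e) := by group
      _ = 1 := by rw [← hc]; exact h2

theorem gamma_self {e : G} (he : e ∈ E) : ⁅dd a e, e⁆ = 1 := by
  have hm := dd_mem P.s1 P.aH he
  have hee : a * (e * e) * a⁻¹ = e * e := by
    rcases P.s1.sq e he with h | h <;> rw [h]
    · group
    · rw [(P.s1.hH a).mp P.aH, mul_inv_cancel_right]
  have h1 : e * e * (e⁻¹ * dd a e * e * dd a e) = e * e * 1 := by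
    rw [mul_one]
    conv_rhs => rw [← hee]
    simp only [dd]; group
  have h2 := mul_left_cancel h1
  rw [commutatorElement_eq_one_iff_mul_comm]
  have h3 : e⁻¹ * dd a e * e = dd a e := by
    rw [eq_inv_of_mul_eq_one_left h2]
    exact inv_eq_of_mul_eq_one_right (P.gamma_sq hα₁ hα₂ h12 he)
  calc dd a e * e = e * (e⁻¹ * dd a e * e) := by group
    _ = _ := by rw [h3]

theorem gamma_comm_gamma {e e' : G} (he : e ∈ E) (he' : e' ∈ E) : ⁅dd a e, dd a e'⁆ = 1 := by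
  rcases P.gamma_cases hα₁ hα₂ h12 he with h | h
  · rw [h, commutatorElement_one_left]
  rcases P.gamma_cases hα₁ hα₂ h12 he' with h' | h'
  · rw [h', commutatorElement_one_right]
  rw [commutatorElement_eq_one_iff_mul_comm]
  have h1 : Commute (dd a e * z) (dd a e' * z) := P.d_comm h.1 (P.d_mem_H' h).2 h'
  have hm := dd_mem P.s1 P.aH he
  have hm' := dd_mem P.s1 P.aH he'
  have c1 : Commute (dd a e * z) z := zc P.s1 h.1
  have c2 := h1.mul_right c1.inv_right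
  rw [mul_inv_cancel_right] at c2
  have c3 : Commute z (dd a e') := (zc P.s1 hm').symm
  have c4 := c2.mul_left c3.inv_left
  rw [mul_inv_cancel_right] at c4
  exact c4.eq

theorem gamma_sym {e e' : G} (he : e ∈ E) (he' : e' ∈ E) : ⁅dd a e, e'⁆ = ⁅e, dd a e'⁆ := by
  have hm := dd_mem P.s1 P.aH he
  have hm' := dd_mem P.s1 P.aH he'
  have h := com_conj P.s1 P.aH he he'
  rw [show a * e * a⁻¹ = e * dd a e by simp [dd], show a * e' * a⁻¹ = e' * dd a e' by simp [dd],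
    com_mul_left P.s1 he hm (mul_mem he' hm'), com_mul_right P.s1 he' hm' he,
    com_mul_right P.s1 he' hm' hm, P.gamma_comm_gamma hα₁ hα₂ h12 he he', mul_one, mul_assoc] at h
  have h2 := mul_eq_left.mp h
  rw [eq_inv_of_mul_eq_one_right h2]
  exact inv_eq_of_mul_eq_one_right (com_sq P.s1 he hm')

theorem relIndex_E : H'.relIndex E = Nat.card ↥(E ⊓ F) := by
  obtain ⟨b₁, hb₁, b₂, hb₂, hb⟩ := P.nonab hα₁ hα₂ h12
  have h : Nat.card ↥(E ⊓ H') * Nat.card ↥(F ⊓ E) = Nat.card E := P.symm.card_B hb₁ hb₂ hb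
  have h2 := card_mul_index ((E ⊓ H').subgroupOf E)
  rw [Nat.card_congr (subgroupOfEquivOfLe inf_le_left).toEquiv, ← h, inf_comm F E] at h2
  rw [← inf_relIndex_left E H']
  exact Nat.eq_of_mul_eq_mul_left Nat.card_pos h2

theorem card_D_ne_one : Nat.card ↥(E ⊓ F) ≠ 1 := by
  intro h
  rw [← P.relIndex_E hα₁ hα₂ h12, relIndex_eq_one] at h
  exact P.aE (P.s1.self (mem_centralizer_iff.mpr fun e he => (P.s2.hH e).mp (h he)))

omit hα₁ hα₂ h12 [Finite G] in
/-- With two classes only, whatever centralises `C_E(a)` and `e₀` centralises `E`. -/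
theorem central_of_two {e₀ : G} (he₀ : e₀ ∈ E)
    (hcases : ∀ e ∈ E, dd a e = 1 ∨ dd a e = dd a e₀) {x : G}
    (hA : ∀ α ∈ E ⊓ H', Commute α x) (h0 : Commute e₀ x) : x ∈ centralizer (E : Set G) := by
  refine mem_centralizer_iff.mpr fun e he => ?_
  have hm : ∀ e' ∈ E, dd a e' = 1 → e' ∈ E ⊓ H' := fun e' he' h => by
    refine mem_inf.mpr ⟨he', (P.s2.hH e').mpr ?_⟩
    calc e' * a = e' * (dd a e' * a) := by rw [h, one_mul]
      _ = a * e' := by simp only [dd]; group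
  rcases hcases e he with h | h
  · exact (hA e (hm e he h)).eq
  · have h1 : dd a (e * e₀⁻¹) = 1 := by
      have e1 : dd a (e * e₀⁻¹) = e₀ * (dd a e * (dd a e₀)⁻¹) * e₀⁻¹ := by simp only [dd]; group
      rw [e1, h, mul_inv_cancel, mul_one, mul_inv_cancel]
    have h3 := (hA _ (hm _ (mul_mem he (inv_mem he₀)) h1)).mul_left h0
    rw [inv_mul_cancel_right] at h3
    exact h3.eq

/-- If `|D| ≤ 4`, then `z a` is no `E`-conjugate of `a`. -/
theorem no_za (h4 : Nat.card ↥(E ⊓ F) ≤ 4) {e₀ : G} (he₀ : e₀ ∈ E) : dd a e₀ ≠ z := by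
  intro h0
  have hD := P.relIndex_E hα₁ hα₂ h12
  have hzc1 : ∀ x ∈ E, ⁅z, x⁆ = 1 := fun x hx =>
    commutatorElement_eq_one_iff_mul_comm.mpr (zc P.s1 hx).symm
  by_cases hex : ∃ e ∈ E, dd a e ≠ 1 ∧ dd a e ≠ z
  · obtain ⟨e, he, he1, hez⟩ := hex
    have hd := (P.gamma_cases hα₁ hα₂ h12 he).resolve_left he1
    set d := dd a e * z with hd_def
    have hdne : d ≠ 1 := fun h =>
      hez ((eq_inv_of_mul_eq_one_left h).trans (inv_eq_of_mul_eq_one_right P.s1.z2))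
    have hγ := dd_mem P.s1 P.aH he
    let C : Subgroup G := E ⊓ centralizer ({d} : Set G)
    have hC : ∀ x ∈ E, ⁅d, x⁆ = 1 → x ∈ C := fun x hx h => mem_inf.mpr ⟨hx,
      mem_centralizer_singleton_iff.mpr (commutatorElement_eq_one_iff_mul_comm.mp h).symm⟩
    have heC : e ∈ C := hC e he (by
      rw [hd_def, com_mul_left P.s1 hγ P.s1.zE he, P.gamma_self hα₁ hα₂ h12 he, hzc1 e he, mul_one])
    have he₀C : e₀ ∈ C := hC e₀ he₀ (by
      rw [hd_def, com_mul_left P.s1 hγ P.s1.zE he₀, P.gamma_sym hα₁ hα₂ h12 he he₀, h0, hzc1 e₀ he₀,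
        mul_one, commutatorElement_eq_one_iff_mul_comm]
      exact zc P.s1 he)
    have h3 : 3 ≤ H'.relIndex C := by
      rw [← ncard_conjSet C P.s2.hH]
      have hsub : ({a, dd a e₀ * a, dd a e * a} : Set G) ⊆ {x | ∃ f ∈ C, f⁻¹ * a * f = x} := by
        rintro x (rfl | rfl | rfl)
        · exact ⟨1, one_mem _, by group⟩
        · exact ⟨e₀, he₀C, by simp [dd, mul_assoc]⟩
        · exact ⟨e, heC, by simp [dd, mul_assoc]⟩
      refine le_trans (le_of_eq ?_) (Set.ncard_le_ncard hsub)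
      rw [Set.ncard_eq_three.mpr ⟨a, dd a e₀ * a, dd a e * a, ?_, ?_, ?_, rfl⟩]
      · rw [h0]; exact fun h => P.s1.z1 (mul_eq_right.mp h.symm)
      · exact fun h => he1 (mul_eq_right.mp h.symm)
      · rw [h0]; exact fun h => hez (mul_right_cancel h).symm
    have hAC : E ⊓ H' ≤ C := fun α hα => mem_inf.mpr ⟨hα.1,
      mem_centralizer_singleton_iff.mpr (P.d_comm hα.1 hα.2 hd)⟩
    have hmul := relIndex_mul_relIndex (E ⊓ H') C E hAC inf_le_left
    rw [inf_relIndex_left E H', hD, ← inf_relIndex_right (E ⊓ H') C,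
      show E ⊓ H' ⊓ C = H' ⊓ C from le_antisymm (inf_le_inf_right _ inf_le_right)
        (fun x hx => ⟨⟨hx.2.1, hx.1⟩, hx.2⟩),
      inf_relIndex_right] at hmul
    have hpos : 0 < Nat.card ↥(E ⊓ F) := Nat.card_pos
    have h1 : C.relIndex E = 1 := by
      have h0' : C.relIndex E ≠ 0 := fun h => by rw [h, mul_zero] at hmul; omega
      nlinarith [Nat.pos_of_ne_zero h0']
    have hEC : E ≤ C := relIndex_eq_one.mp h1
    rcases P.s1.cen d hd.1 (fun y hy => (mem_centralizer_singleton_iff.mp (hEC hy).2).symm) with h | h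
    · exact hdne h
    · exact P.zF (h ▸ hd.2)
  push Not at hex
  have hne : E ⊓ F ≠ ⊥ := fun h => P.card_D_ne_one hα₁ hα₂ h12 (card_eq_one.mpr h)
  obtain ⟨d₀, hd₀, hd₀ne⟩ := (Subgroup.bot_or_exists_ne_one _).resolve_left hne
  have hcases : ∀ e ∈ E, dd a e = 1 ∨ dd a e = dd a e₀ := fun e he => by
    by_cases h : dd a e = 1
    · exact .inl h
    · exact .inr ((hex e he h).trans h0.symm)
  by_cases hce : Commute e₀ d₀
  · have hcent := P.central_of_two he₀ hcases (fun α hα => P.d_comm hα.1 hα.2 hd₀) hce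
    rcases P.s1.cen d₀ hd₀.1 (fun y hy => (mem_centralizer_iff.mp hcent y hy).symm) with h | h
    · exact hd₀ne h
    · exact P.zF (h ▸ hd₀.2)
  have hcz : ⁅d₀, e₀⁆ = z := (com_cases P.s1 hd₀.1 he₀).resolve_left fun h =>
    hce (mul_mem_comm P.s1 h).symm
  have hae : a * e₀ * a⁻¹ = e₀ * z := by rw [← h0]; simp [dd]
  have hde : d₀ * e₀ * d₀⁻¹ = z * e₀ := by rw [← hcz, commutatorElement_def]; group
  have hx0 : Commute e₀ (a * d₀) := by
    have : a * d₀ * e₀ * (a * d₀)⁻¹ = e₀ := by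
      calc a * d₀ * e₀ * (a * d₀)⁻¹ = a * (d₀ * e₀ * d₀⁻¹) * a⁻¹ := by group
        _ = a * z * a⁻¹ * (a * e₀ * a⁻¹) := by rw [hde]; group
        _ = z * (e₀ * z) := by rw [hae, (P.s1.hH a).mp P.aH, mul_inv_cancel_right]
        _ = z * z * e₀ := by rw [zc P.s1 he₀, mul_assoc]
        _ = e₀ := by rw [P.s1.z2, one_mul]
    exact (mul_inv_eq_iff_eq_mul.mp this).symm
  have hxA : ∀ α ∈ E ⊓ H', Commute α (a * d₀) := fun α hα =>
    Commute.mul_right ((P.s2.hH α).mp hα.2) (P.d_comm hα.1 hα.2 hd₀)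
  exact P.aE ((E.mul_mem_cancel_right hd₀.1).mp (P.s1.self (P.central_of_two he₀ hcases hxA hx0)))

/-- The parities of `α ∈ C_E(a)` at `z` and at `a` agree. -/
theorem lam_eq (μ : H →* ℤˣ) {g : G} (ha : g * z * g⁻¹ = a) {α : G} (hα : α ∈ E ⊓ H') :
    lam μ (g⁻¹ * α * g) = lam μ α := by
  classical
  obtain ⟨b₁, hb₁, b₂, hb₂, hb⟩ := P.nonab hα₁ hα₂ h12
  have hH' : ∀ x ∈ H', g⁻¹ * x * g ∈ H := fun x hx => by
    rw [P.s1.hH]
    calc g⁻¹ * x * g * z = g⁻¹ * (x * (g * z * g⁻¹)) * g := by group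
      _ = g⁻¹ * (g * z * g⁻¹ * x) * g := by rw [ha, (P.s2.hH x).mp hx]
      _ = _ := by group
  have hcom : ∀ x y, x ∈ H → y ∈ H → ∀ w ∈ H, x * y = y * x * w → lam μ w = 1 := by
    intro x y hx hy w hw h
    have := congrArg (lam μ) h
    rw [lam_mul hx hy, lam_mul (mul_mem hy hx) hw, lam_mul hy hx, mul_comm (lam μ y)] at this
    exact mul_eq_left.mp this.symm
  have hla : lam μ a = 1 := hcom b₁ b₂ hb₁.2 hb₂.2 a P.aH hb
  have hlz : lam μ (g⁻¹ * z * g) = 1 := by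
    refine hcom _ _ (hH' _ hα₁.2) (hH' _ hα₂.2) _ (hH' _ P.zH') ?_
    calc g⁻¹ * α₁ * g * (g⁻¹ * α₂ * g) = g⁻¹ * (α₁ * α₂) * g := by group
      _ = _ := by rw [h12]; group
  have hαH : α ∈ H := P.s1.hEH hα.1
  have hL : ∀ f ∈ F, dd f α ∈ F ⊓ H := by
    intro f hf
    refine mem_inf.mpr ⟨?_, mul_mem (inv_mem hαH) ?_⟩
    · have e : dd f α = (α⁻¹ * f * α⁻¹⁻¹) * f⁻¹ := by simp only [dd]; group
      rw [e]
      exact mul_mem (P.s2.hnorm _ (inv_mem hα.2) f hf) (inv_mem hf)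
    · have hx : Commute α (f⁻¹ * z * f) := by
        have e : f⁻¹ * z * f = dd z f * z := by simp [dd, mul_assoc]
        have hαz : Commute α z := zc P.s1 hα.1
        rw [e]
        rcases P.symm.gamma_cases hb₁ hb₂ hb hf with h | h
        · rw [h, one_mul]; exact hαz
        · have h1 : Commute α (dd z f * a) := P.d_comm hα.1 hα.2 ⟨h.2, h.1⟩
          have h2 : Commute α a := (P.s2.hH α).mp hα.2
          have h3 := h1.mul_right h2.inv_right
          rw [mul_inv_cancel_right] at h3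
          exact h3.mul_right hαz
      rw [P.s1.hH]
      calc f * α * f⁻¹ * z = f * (α * (f⁻¹ * z * f)) * f⁻¹ := by group
        _ = _ := by rw [hx.eq]; group
  have hFH : ∀ f ∈ F, ∀ x ∈ F ⊓ H, f * x * f⁻¹ ∈ H ∧ lam μ (f * x * f⁻¹) = lam μ x := by
    intro f hf x hx
    have e : f * x * f⁻¹ = ⁅f, x⁆ * x := by rw [commutatorElement_def]; group
    rw [e]
    rcases com_cases P.s2 hf hx.1 with h | h <;> rw [h]
    · rw [one_mul]; exact ⟨hx.2, rfl⟩
    · exact ⟨mul_mem P.aH hx.2, by rw [lam_mul P.aH hx.2, hla, one_mul]⟩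
  have hLmul : ∀ f₁ ∈ F, ∀ f₂ ∈ F,
      lam μ (dd (f₁ * f₂) α) = lam μ (dd f₁ α) * lam μ (dd f₂ α) := by
    intro f₁ h1 f₂ h2
    have e : dd (f₁ * f₂) α = dd f₁ α * (f₁ * dd f₂ α * f₁⁻¹) := by simp only [dd]; group
    obtain ⟨hm, hl⟩ := hFH f₁ h1 _ (hL f₂ h2)
    rw [e, lam_mul (hL f₁ h1).2 hm, hl]
  let N : Subgroup G :=
    { carrier := {f | f ∈ F ∧ lam μ (dd f α) = 1}
      one_mem' := ⟨one_mem F, by
        rw [show dd (1 : G) α = 1 by simp [dd], lam_of_mem (one_mem H)]; exact map_one μ⟩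
      mul_mem' := fun {x y} hx hy => ⟨mul_mem hx.1 hy.1, by
        rw [hLmul x hx.1 y hy.1, hx.2, hy.2, mul_one]⟩
      inv_mem' := fun {x} hx => ⟨inv_mem hx.1, by
        have := hLmul x hx.1 x⁻¹ (inv_mem hx.1)
        rw [mul_inv_cancel, show dd (1 : G) α = 1 by simp [dd], lam_of_mem (one_mem H), hx.2,
          one_mul] at this
        exact this.symm.trans (map_one μ)⟩ }
  by_contra hne
  -- no `F`-conjugate by `N` is an `E`-conjugate of `a`
  have hdisj : ∀ f ∈ N, ∀ e ∈ E, f⁻¹ * z * f ≠ e⁻¹ * a * e := by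
    intro f hf e he heq
    apply hne
    have hk : f * e⁻¹ * g ∈ H := by
      rw [P.s1.hH]
      calc f * e⁻¹ * g * z = f * (e⁻¹ * (g * z * g⁻¹) * e) * f⁻¹ * (f * e⁻¹ * g) := by group
        _ = _ := by rw [ha, ← heq]; group
    have e1 : g⁻¹ * (e * α * e⁻¹) * g = (f * e⁻¹ * g)⁻¹ * (f * α * f⁻¹) * (f * e⁻¹ * g) := by group
    have e2 : lam μ (g⁻¹ * (e * α * e⁻¹) * g) = lam μ (g⁻¹ * α * g) := by
      rw [show e * α * e⁻¹ = ⁅e, α⁆ * α by rw [commutatorElement_def]; group]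
      rcases com_cases P.s1 he hα.1 with h | h <;> rw [h]
      · rw [one_mul]
      · rw [show g⁻¹ * (z * α) * g = g⁻¹ * z * g * (g⁻¹ * α * g) by group,
          lam_mul (hH' _ P.zH') (hH' _ hα.2), hlz, one_mul]
    rw [← e2, e1, lam_conj hk, show f * α * f⁻¹ = α * dd f α by simp [dd],
      lam_mul hαH (hL f hf.1).2, hf.2, mul_one]
  have hNF : N ≤ F := fun f hf => hf.1
  have hBN : F ⊓ H ≤ N := fun b hb' => ⟨hb'.1, by
    refine hcom α b⁻¹ hαH (inv_mem hb'.2) _ (hL b hb'.1).2 ?_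
    simp only [dd]; group⟩
  -- counting
  have hDE := P.relIndex_E hα₁ hα₂ h12
  have hDF : H.relIndex F = Nat.card ↥(E ⊓ F) := by
    rw [P.symm.relIndex_E hb₁ hb₂ hb, inf_comm]
  set CE : Set G := {x | ∃ f ∈ E, f⁻¹ * a * f = x} with hCE
  set CN : Set G := {x | ∃ f ∈ N, f⁻¹ * z * f = x} with hCN
  set T : Set G := (fun d => d * (z * a)) '' (↑(E ⊓ F) : Set G) with hT
  have hTc : T.ncard = Nat.card ↥(E ⊓ F) := by
    rw [hT, Set.ncard_image_of_injective _ (mul_left_injective _), ← Nat.card_coe_set_eq]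
    rfl
  have hCEc : CE.ncard = Nat.card ↥(E ⊓ F) := by rw [hCE, ncard_conjSet E P.s2.hH, hDE]
  have hCET : CE \ {a} ⊆ T := by
    rintro x ⟨⟨f, hf, rfl⟩, hx⟩
    have e1 : f⁻¹ * a * f = dd a f * a := by simp [dd, mul_assoc]
    rcases P.gamma_cases hα₁ hα₂ h12 hf with h | h
    · exact absurd (by rw [e1, h, one_mul]; rfl) hx
    · refine ⟨_, h, ?_⟩
      show dd a f * z * (z * a) = _
      rw [e1, mul_assoc, ← mul_assoc z, P.s1.z2, one_mul]
  have hCNT : CN \ {z} ⊆ T \ (CE \ {a}) := by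
    rintro x ⟨⟨f, hf, rfl⟩, hx⟩
    have e1 : f⁻¹ * z * f = dd z f * z := by simp [dd, mul_assoc]
    refine ⟨?_, fun hxE => ?_⟩
    · rcases P.symm.gamma_cases hb₁ hb₂ hb hf.1 with h | h
      · exact absurd (by rw [e1, h, one_mul]; rfl) hx
      · refine ⟨_, ⟨h.2, h.1⟩, ?_⟩
        show dd z f * a * (z * a) = _
        rw [e1, P.za_comm, mul_assoc, ← mul_assoc a, P.s2.z2, one_mul]
    · obtain ⟨⟨e, he, hee⟩, -⟩ := hxE
      exact hdisj f hf e he hee.symm
  have haCE : a ∈ CE := ⟨1, one_mem _, by group⟩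
  have hzCN : z ∈ CN := ⟨1, one_mem _, by group⟩
  have hR : (T \ (CE \ {a})).ncard = 1 := by
    have hpos : 0 < Nat.card ↥(E ⊓ F) := Nat.card_pos
    rw [Set.ncard_sdiff hCET, hTc, Set.ncard_sdiff_singleton_of_mem haCE, hCEc]
    omega
  have hCNc : CN.ncard ≤ 2 := by
    have := Set.ncard_le_ncard hCNT
    rw [hR, Set.ncard_sdiff_singleton_of_mem hzCN] at this
    omega
  have hmul : H.relIndex N * N.relIndex F = Nat.card ↥(E ⊓ F) := by
    have h := relIndex_mul_relIndex (F ⊓ H) N F hBN hNF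
    rw [inf_relIndex_left, hDF, ← inf_relIndex_right (F ⊓ H) N,
      show F ⊓ H ⊓ N = H ⊓ N from le_antisymm (inf_le_inf_right _ inf_le_right)
        (fun x hx => ⟨⟨hNF hx.2, hx.1⟩, hx.2⟩),
      inf_relIndex_right] at h
    exact h
  have hNi : N.relIndex F ≤ 2 := by
    have h := OrderJTwo.card_le_two_mul F N hNF (fun x hx y hy hxN hyN => ⟨mul_mem hx hy, by
      rw [hLmul x hx y hy, (Int.units_eq_one_or _).resolve_left fun h => hxN ⟨hx, h⟩,
        (Int.units_eq_one_or _).resolve_left fun h => hyN ⟨hy, h⟩]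
      rfl⟩)
    have h2 := card_mul_index (N.subgroupOf F)
    rw [Nat.card_congr (subgroupOfEquivOfLe hNF).toEquiv] at h2
    rw [← h2, mul_comm 2] at h
    exact Nat.le_of_mul_le_mul_left h Nat.card_pos
  have hCNi : CN.ncard = H.relIndex N := ncard_conjSet N P.s1.hH
  have h4 : Nat.card ↥(E ⊓ F) ≤ 4 := by rw [← hmul]; exact Nat.mul_le_mul (hCNi ▸ hCNc) hNi
  rcases Nat.lt_or_ge (Nat.card ↥(E ⊓ F)) 3 with h3 | h3
  · have hc2 : Nat.card ↥(E ⊓ F) = 2 := by
      have := P.card_D_ne_one hα₁ hα₂ h12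
      have : 0 < Nat.card ↥(E ⊓ F) := Nat.card_pos
      omega
    obtain ⟨e, he, heH⟩ : ∃ e ∈ E, e ∉ H' := by
      by_contra h
      push Not at h
      rw [relIndex_eq_one.mpr h] at hDE
      omega
    have hγ1 : dd a e ≠ 1 := fun h => heH ((P.s2.hH e).mpr (by
      calc e * a = e * (dd a e * a) := by rw [h, one_mul]
        _ = a * e := by simp only [dd]; group))
    have hd := (P.gamma_cases hα₁ hα₂ h12 he).resolve_left hγ1
    have hmem : ∀ x, ∀ f ∈ E, dd a f * a = x → x ∈ CE := fun x f hf h =>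
      ⟨f, hf, by rw [← h]; simp [dd, mul_assoc]⟩
    have hpair : ({a, dd a e * a} : Set G) = CE := by
      refine Set.eq_of_subset_of_ncard_le ?_ ?_
      · rintro x (rfl | rfl)
        · exact haCE
        · exact hmem _ e he rfl
      · rw [hCEc, hc2, Set.ncard_pair fun h => hγ1 (mul_eq_right.mp h.symm)]
    have hcases : ∀ x ∈ E, dd a x = 1 ∨ dd a x = dd a e := fun x hx => by
      have := hpair ▸ hmem _ x hx rfl
      rcases this with h | h
      · exact .inl (mul_eq_right.mp h)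
      · exact .inr (mul_right_cancel h)
    have hdc : Commute e (dd a e * z) := by
      have h1 : Commute (dd a e) e := mul_mem_comm P.s1 (P.gamma_self hα₁ hα₂ h12 he)
      exact h1.symm.mul_right (zc P.s1 he)
    have hcent := P.central_of_two he hcases (fun x hx => P.d_comm hx.1 hx.2 hd) hdc
    rcases P.s1.cen _ hd.1 (fun y hy => (mem_centralizer_iff.mp hcent y hy).symm) with h | h
    · exact P.no_za hα₁ hα₂ h12 h4 he
        ((eq_inv_of_mul_eq_one_left h).trans (inv_eq_of_mul_eq_one_right P.s1.z2))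
    · exact P.zF (h ▸ hd.2)
  -- the only candidate is `z a`
  have hza : z * a ∈ T \ (CE \ {a}) := by
    refine ⟨⟨1, one_mem _, by simp⟩, fun h => ?_⟩
    obtain ⟨⟨e, he, hee⟩, -⟩ := h
    rw [show e⁻¹ * a * e = dd a e * a by simp [dd, mul_assoc]] at hee
    exact P.no_za hα₁ hα₂ h12 h4 he (mul_right_cancel hee)
  obtain ⟨w, hw⟩ := Set.ncard_eq_one.mp hR
  have hCN1 : CN.ncard ≤ 1 := by
    refine le_trans (Set.ncard_le_ncard (t := {z}) fun x hx => ?_) (by simp)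
    by_contra hxz
    have h1 : x = w := by have := hCNT ⟨hx, hxz⟩; rw [hw] at this; exact this
    have h2 : z * a = w := by rw [hw] at hza; exact hza
    obtain ⟨f, hf, hfx⟩ := hx
    rw [h1, ← h2, P.za_comm, show f⁻¹ * z * f = dd z f * z by simp [dd, mul_assoc]] at hfx
    exact P.symm.no_za hb₁ hb₂ hb (by rw [inf_comm]; exact h4) hf.1 (mul_right_cancel hfx)
  rw [hCNi] at hCN1
  have := Nat.mul_le_mul hCN1 hNi
  omega

end Pair

end Cfsg.Agent.WCIndexTwo
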