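import Cfsg.Agent.Lib.WCIndexTwo.Endo
import Cfsg.Agent.Lib.WCIndexTwo.Equal

/-!
# The product over one orbit of `E`

`orbit_prod` : the signs on the orbit of a coset fixed by `C_E(h)` multiply to `1`.
-/

set_option autoImplicit false
open scoped commutatorElement

namespace Cfsg.Agent.WCIndexTwo

open Subgroup LargeExtraspecial.TransferFixed

variable {G : Type*} [Group G] {H E : Subgroup G} {z : G}

theorem z_cases (hS : Setting H E z) {x : G} (hx : x ∈ zpowers z) : x = 1 ∨ x = z := by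
  obtain ⟨i, rfl⟩ := mem_zpowers_iff.mp hx
  have hz2 : z ^ (2 : ℤ) = 1 := by rw [zpow_ofNat, sq, hS.z2]
  rcases Int.even_or_odd i with ⟨m, rfl⟩ | ⟨m, rfl⟩
  · left; rw [← two_mul, zpow_mul, hz2, one_zpow]
  · right; rw [zpow_add, zpow_mul, hz2, one_zpow, one_mul, zpow_one]

theorem commute_of_z (hS : Setting H E z) {x y : G} (hx : x ∈ zpowers z) (hy : y ∈ E) : Commute x y := by
  rcases z_cases hS hx with rfl | rfl
  · exact Commute.one_left y
  · exact (zc hS hy).symm

theorem eq_eps {h e : G} : eps h e = h⁻¹ * e⁻¹ * h * e := rfl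

theorem conj_eq_mul_eps {h e : G} : e⁻¹ * h * e = h * eps h e := by simp only [eps]; group

theorem eps_pair (hS : Setting H E z) {h x y : G} (hh : h ∈ H) (hx : x ∈ E) (hy : y ∈ E) :
    ⁅eps h x, eps h y⁆ * ⁅eps h x, y⁆ * ⁅x, eps h y⁆ = 1 := by
  have hdx := eps_mem hS hh hx
  have hdy := eps_mem hS hh hy
  have h1 := com_conj hS (inv_mem hh) (inv_mem hx) (inv_mem hy)
  rw [inv_inv, show h⁻¹ * x⁻¹ * h = eps h x * x⁻¹ by simp only [eps]; group,
    show h⁻¹ * y⁻¹ * h = eps h y * y⁻¹ by simp only [eps]; group,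
    com_mul_left hS hdx (inv_mem hx) (mul_mem hdy (inv_mem hy)),
    com_mul_right hS hdy (inv_mem hy) hdx, com_mul_right hS hdy (inv_mem hy) (inv_mem hx),
    com_inv_right hS hy hdx, com_inv_left hS hx hdy, com_inv_left hS hx (inv_mem hy),
    com_inv_right hS hy hx, ← mul_assoc] at h1
  exact mul_eq_right.mp h1

theorem eps_eq_one_iff {h e : G} : eps h e = 1 ↔ Commute e h := by
  constructor
  · intro he
    have := conj_eq_mul_eps (h := h) (e := e)
    rw [he, mul_one] at this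
    calc e * h = e * (e⁻¹ * h * e) := by rw [this]
      _ = h * e := by group
  · intro hc
    have : e⁻¹ * h * e = h := by rw [mul_assoc, ← hc.eq, inv_mul_cancel_left]
    rw [conj_eq_mul_eps] at this
    exact mul_eq_left.mp this

section invol

variable (hS : Setting H E z) {t : G} (ht : t ∈ H) (ht2 : t * t = 1)
include hS ht ht2

omit hS ht in
theorem eps_inv_conj (e : G) : t * eps t e * t = (eps t e)⁻¹ := by
  have ht' : t⁻¹ = t := inv_eq_of_mul_eq_one_right ht2
  have e2 : t * eps t e * t = (t * t⁻¹) * (e⁻¹ * t * e * t) := by simp only [eps]; group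
  rw [e2]
  simp only [eps, ht', ht2, one_mul, mul_inv_rev, inv_inv, mul_assoc]

theorem eps_comm {x y : G} (hx : x ∈ E) (hy : y ∈ E) : Commute (eps t x) (eps t y) := by
  have hd := eps_mul hS ht hx hy
  have h1 := eps_inv_conj ht2 (x * y)
  set i := ⁅eps t x, y⁆
  set p := eps t x
  set q := eps t y
  have hp : t * p * t = p⁻¹ := eps_inv_conj ht2 x
  have hq : t * q * t = q⁻¹ := eps_inv_conj ht2 y
  have hi : ∀ w ∈ E, Commute i w := fun w hw => (com_central hS (eps_mem hS ht hx) hy hw).symm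
  have hti : t * i * t = i := by
    rcases com_cases hS (eps_mem hS ht hx) hy with h | h
    · rw [show i = 1 from h, mul_one, ht2]
    · rw [show i = z from h, (hS.hH t).mp ht, mul_assoc, ht2, mul_one]
  have hii : i⁻¹ = i := inv_eq_of_mul_eq_one_right (com_sq hS (eps_mem hS ht hx) hy)
  have e2 : t * (q * p * i) * t = (t * q * t) * (t * p * t) * (t * i * t) := by
    calc t * (q * p * i) * t = t * q * (1 * p) * (1 * i) * t := by group
      _ = _ := by rw [← ht2]; group
  rw [hd, e2, hp, hq, hti, mul_inv_rev, mul_inv_rev, hii] at h1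
  have hpE := eps_mem hS ht hx
  have hqE := eps_mem hS ht hy
  rw [(hi _ (mul_mem (inv_mem hpE) (inv_mem hqE))).eq] at h1
  have h2 := mul_right_cancel h1
  have h3 := congrArg (·⁻¹) h2
  show p * q = q * p
  simpa using h3

theorem eps_self {p : G} (hp : p ∈ E) (h2 : eps t p * eps t p = 1) : ⁅eps t p, p⁆ = 1 := by
  have ht' : t⁻¹ = t := inv_eq_of_mul_eq_one_right ht2
  have hd := eps_mem hS ht hp
  have hpp : t⁻¹ * (p⁻¹ * p⁻¹) * t = p⁻¹ * p⁻¹ := by
    rcases hS.sq _ (inv_mem hp) with h | h <;> rw [h]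
    · group
    · rw [mul_assoc, ← (hS.hH t).mp ht, inv_mul_cancel_left]
  have h1 : (eps t p * p⁻¹ * eps t p * p) * (p⁻¹ * p⁻¹) = 1 * (p⁻¹ * p⁻¹) := by
    rw [one_mul]
    conv_rhs => rw [← hpp]
    simp only [eps]; group
  have h3 : eps t p * (p⁻¹ * eps t p * p) = 1 := by
    rw [← mul_right_cancel h1]; group
  have h4 : p⁻¹ * eps t p * p = eps t p :=
    (inv_eq_of_mul_eq_one_right h3).symm.trans (inv_eq_of_mul_eq_one_right h2)
  rw [commutatorElement_eq_one_iff_mul_comm]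
  calc eps t p * p = p * (p⁻¹ * eps t p * p) := by group
    _ = _ := by rw [h4]

theorem exists_abelian : ∃ R ≤ E, z ∈ R ∧ (∀ x ∈ R, ∀ y ∈ R, Commute x y) ∧ ∀ e ∈ E, eps t e ∈ R := by
  let s : Set G := {x | ∃ e ∈ E, eps t e = x} ∪ {z}
  have hsE : s ⊆ E := by
    rintro x (⟨e, he, rfl⟩ | rfl)
    · exact eps_mem hS ht he
    · exact hS.zE
  have hc : closure s ≤ centralizer s := by
    rw [closure_le]
    intro x hx
    rw [SetLike.mem_coe, mem_centralizer_iff]
    intro y hy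
    rcases hx with ⟨e, he, rfl⟩ | rfl
    · rcases hy with ⟨e', he', rfl⟩ | rfl
      · exact (eps_comm hS ht ht2 he' he).eq
      · exact (zc hS (eps_mem hS ht he)).symm
    · exact zc hS (hsE hy)
  refine ⟨closure s, (closure_le _).mpr hsE, subset_closure (.inr rfl), fun x hx y hy => ?_,
    fun e he => subset_closure (.inl ⟨e, he, rfl⟩)⟩
  rw [← centralizer_closure s] at hc
  exact mem_centralizer_iff.mp (hc hy) x hx

end invol

variable [Finite G]

theorem card_abelian (hS : Setting H E z) {X : Subgroup G} (hX : X ≤ E) (hzX : z ∈ X)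
    (hc : ∀ x ∈ X, ∀ y ∈ X, Commute x y) : Nat.card X * Nat.card X ≤ 2 * Nat.card E := by
  rw [← card_cent hS hX hzX]
  exact Nat.mul_le_mul_right _ (Subgroup.card_le_of_le
    (le_inf hX fun x hx => mem_centralizer_iff.mpr fun y hy => (hc y hy x hx).eq))

omit [Finite G] in
theorem card_map_mk {N U : Subgroup G} [(N.subgroupOf E).Normal] (hNU : N ≤ U) (hUE : U ≤ E) :
    Nat.card ((U.subgroupOf E).map (QuotientGroup.mk' (N.subgroupOf E))) * Nat.card N = Nat.card U := by
  set f := (QuotientGroup.mk' (N.subgroupOf E)).comp (Subgroup.inclusion hUE) with hf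
  have hr : f.range = (U.subgroupOf E).map (QuotientGroup.mk' (N.subgroupOf E)) := by
    rw [hf, MonoidHom.range_comp, Subgroup.inclusion_range]
  have hk : f.ker = N.subgroupOf U := by
    ext x
    rw [MonoidHom.mem_ker, hf, MonoidHom.comp_apply, QuotientGroup.mk'_apply, QuotientGroup.eq_one_iff,
      mem_subgroupOf, mem_subgroupOf]
    rfl
  have h := card_mul_index f.ker
  rw [index_ker, hr, hk, Nat.card_congr (subgroupOfEquivOfLe hNU).toEquiv, mul_comm] at h
  exact h

/-- The preimage in `G` of a subgroup of `E ⧸ N`. -/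
def pre {N : Subgroup G} [(N.subgroupOf E).Normal] (V : Subgroup (E ⧸ N.subgroupOf E)) : Subgroup G :=
  (V.comap (QuotientGroup.mk' (N.subgroupOf E))).map E.subtype

omit [Finite G] in
theorem mem_pre {N : Subgroup G} [(N.subgroupOf E).Normal] {V : Subgroup (E ⧸ N.subgroupOf E)} {x : G} :
    x ∈ pre V ↔ ∃ hx : x ∈ E, ((⟨x, hx⟩ : E) : E ⧸ N.subgroupOf E) ∈ V := by
  constructor
  · rintro ⟨y, hy, rfl⟩; exact ⟨y.2, hy⟩
  · rintro ⟨hx, h⟩; exact ⟨⟨x, hx⟩, h, rfl⟩

omit [Finite G] in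
theorem card_pre {N : Subgroup G} [(N.subgroupOf E).Normal] (hNE : N ≤ E)
    (V : Subgroup (E ⧸ N.subgroupOf E)) : Nat.card (pre V) = Nat.card V * Nat.card N := by
  have hle : N ≤ pre V := fun x hx => mem_pre.mpr ⟨hNE hx, by
    rw [(QuotientGroup.eq_one_iff _).mpr (show (⟨x, hNE hx⟩ : E) ∈ N.subgroupOf E from hx)]
    exact one_mem V⟩
  have h := card_map_mk (E := E) hle (map_subtype_le _)
  have e : ((pre V).subgroupOf E).map (QuotientGroup.mk' (N.subgroupOf E)) = V := by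
    show (((V.comap (QuotientGroup.mk' (N.subgroupOf E))).map E.subtype).comap E.subtype).map
      (QuotientGroup.mk' (N.subgroupOf E)) = V
    rw [comap_map_eq_self_of_injective E.subtype_injective,
      map_comap_eq_self_of_surjective (QuotientGroup.mk'_surjective _)]
  rw [e] at h
  exact h.symm

theorem eps_z_sq (hS : Setting H E z) {t x y : G} (ht : t ∈ H) (hx : x ∈ E) (hy : y ∈ E)
    (h1 : eps t x = z) (h2 : eps t y = z) : eps t (x * y) = 1 := by
  rw [eps_mul hS ht hx hy, h1, h2, hS.z2, one_mul,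
    commutatorElement_eq_one_iff_mul_comm.mpr (zc hS hy).symm]

/-- The centralizer of an involution of `H` in `E` is large. -/
theorem card_cent_invol (hS : Setting H E z) {n : ℕ} (hn : Nat.card E = 2 ^ (2 * n + 1)) {t : G}
    (ht : t ∈ H) (ht2 : t * t = 1) : 2 ^ n ≤ Nat.card ↥(E ⊓ centralizer ({t} : Set G)) := by
  haveI := normal_of_z (A := zpowers z) hS (mem_zpowers z)
  obtain ⟨R, hRE, hzR, hRc, hR⟩ := exists_abelian hS ht ht2
  let ψ := Psi hS (mem_zpowers z) ht (A := zpowers z) (fun x hx hxz => by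
    have : eps t x = 1 := eps_eq_one_iff.mpr (by
      rcases z_cases hS hxz with rfl | rfl
      · exact Commute.one_left t
      · exact ((hS.hH t).mp ht).symm)
    rw [this]; exact one_mem _)
  have hrange : ψ.range ≤ (R.subgroupOf E).map (QuotientGroup.mk' ((zpowers z).subgroupOf E)) := by
    rintro _ ⟨q, rfl⟩
    induction q using QuotientGroup.induction_on with
    | _ x => exact ⟨⟨_, eps_mem hS ht x.2⟩, hR x x.2, rfl⟩
  have hz := card_zpowers hS
  have hzR' : zpowers z ≤ R := zpowers_le.mpr hzR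
  have hzE : zpowers z ≤ E := zpowers_le.mpr hS.zE
  have h1 := Nat.mul_le_mul_right 2 (Subgroup.card_le_of_le hrange)
  rw [show Nat.card ((R.subgroupOf E).map (QuotientGroup.mk' ((zpowers z).subgroupOf E))) * 2 = Nat.card R by
    conv_lhs => rw [← hz]
    exact card_map_mk hzR' hRE] at h1
  have h2 := card_abelian hS hRE hzR hRc
  have h3 := card_mul_index ψ.ker
  rw [index_ker] at h3
  have h4 := card_pre hzE ψ.ker
  rw [hz] at h4
  have h5 := card_eq_card_quotient_mul_card_subgroup ((zpowers z).subgroupOf E)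
  rw [Nat.card_congr (subgroupOfEquivOfLe hzE).toEquiv, hz] at h5
  have hC : ∀ x ∈ pre ψ.ker, eps t x = 1 ∨ eps t x = z := fun x hx => by
    obtain ⟨hxE, hxk⟩ := mem_pre.mp hx
    rw [MonoidHom.mem_ker, Psi_mk, QuotientGroup.eq_one_iff, mem_subgroupOf] at hxk
    exact z_cases hS hxk
  have hpE : pre ψ.ker ≤ E := map_subtype_le _
  have hidx := OrderJTwo.card_le_two_mul (pre ψ.ker) (pre ψ.ker ⊓ centralizer ({t} : Set G)) inf_le_left
    (fun x hx y hy hxn hyn => mem_inf.mpr ⟨mul_mem hx hy, mem_centralizer_singleton_iff.mpr (by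
      have key : ∀ w ∈ pre ψ.ker, w ∉ pre ψ.ker ⊓ centralizer ({t} : Set G) → eps t w = z :=
        fun w hw hwn => (hC w hw).resolve_left fun h =>
          hwn (mem_inf.mpr ⟨hw, mem_centralizer_singleton_iff.mpr (eps_eq_one_iff.mp h).eq⟩)
      exact (eps_eq_one_iff.mp (eps_z_sq hS ht (hpE hx) (hpE hy) (key x hx hxn) (key y hy hyn))).eq)⟩)
  have h6 := Subgroup.card_le_of_le (inf_le_inf_right (centralizer ({t} : Set G)) hpE)
  rw [hn] at h2 h5
  have hR' : Nat.card R ≤ 2 ^ (n + 1) := by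
    by_contra hlt
    push Not at hlt
    have := Nat.mul_lt_mul'' hlt hlt
    rw [← pow_add, show n + 1 + (n + 1) = 2 * n + 1 + 1 by omega, pow_succ'] at this
    omega
  set K := Nat.card ψ.ker
  set Rg := Nat.card ψ.range
  set C := Nat.card ↥(E ⊓ centralizer ({t} : Set G))
  rw [h4] at hidx
  have hK : K ≤ C := by omega
  have h8 : Rg ≤ 2 ^ n := by rw [pow_succ] at hR'; omega
  have h9 : 2 ^ (2 * n) ≤ K * 2 ^ n := by
    have h10 : K * Rg = 2 ^ (2 * n) := by
      rw [h3]; rw [pow_succ] at h5; omega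
    rw [← h10]; exact Nat.mul_le_mul_left _ h8
  rw [two_mul, pow_add] at h9
  exact le_trans (Nat.le_of_mul_le_mul_right h9 (by positivity)) hK

/-- The data at one point `g H` fixed by `C_E(h)` and `h`. -/
structure Local (H E : Subgroup G) (z : G) (n : ℕ) (μ : H →* ℤˣ) (h g : G) : Prop where
  s : Setting H E z
  w : WC E z
  hn : 3 ≤ n
  card : Nat.card E = 2 ^ (2 * n + 1)
  hh : h ∈ H
  hgh : g⁻¹ * h * g ∈ H
  hgH : g ∉ H
  hfix : ∀ w ∈ E, Commute w h → g⁻¹ * w * g ∈ H
  hmv : ∃ e ∈ E, g⁻¹ * e * g ∉ H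
  htwo : ∃ m : ℕ, h ^ 2 ^ m = 1
  hcase : h * h = 1 ∨ (∀ x ∈ H, x * x = 1 → lam μ x = 1) ∧
    (∀ x ∈ H, x ^ 4 = 1 → lam μ x ≠ 1 → h ^ 4 = 1)

namespace Local

variable {n : ℕ} {μ : H →* ℤˣ} {h g : G}


omit [Finite G] in
theorem z_mem (L : Local H E z n μ h g) : z ∈ (E ⊓ Subgroup.map (MulEquiv.toMonoidHom (MulAut.conj g)) H) :=
  mem_inf.mpr ⟨L.s.zE, mem_map_conj.mpr (L.hfix z L.s.zE ((L.s.hH h).mp L.hh).symm)⟩

omit [Finite G] in
theorem eps_A (L : Local H E z n μ h g) : ∀ x ∈ E, x ∈ (E ⊓ Subgroup.map (MulEquiv.toMonoidHom (MulAut.conj g)) H) → eps h x ∈ (E ⊓ Subgroup.map (MulEquiv.toMonoidHom (MulAut.conj g)) H) := fun x hx hxA =>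
  mem_inf.mpr ⟨eps_mem L.s L.hh hx, mul_mem (mul_mem (mul_mem (inv_mem (mem_map_conj.mpr L.hgh))
    (inv_mem hxA.2)) (mem_map_conj.mpr L.hgh)) hxA.2⟩

omit [Finite G] in
theorem comm_mem (L : Local H E z n μ h g) {x y : G} (hx : x ∈ E) (hy : y ∈ E) : ⁅x, y⁆ ∈ (E ⊓ Subgroup.map (MulEquiv.toMonoidHom (MulAut.conj g)) H) := by
  rcases com_cases L.s hx hy with e | e <;> rw [e]
  · exact one_mem _
  · exact L.z_mem

omit [Finite G] in
theorem pair (L : Local H E z n μ h g) :
    Pair H E z (Subgroup.map (MulEquiv.toMonoidHom (MulAut.conj g)) H) (E.map (MulAut.conj g).toMonoidHom) (g * z * g⁻¹) := by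
  have hne : g * z * g⁻¹ ≠ z := fun e => L.hgH ((L.s.hH g).mpr (mul_inv_eq_iff_eq_mul.mp e))
  refine ⟨L.s, setting_conjugate L.s g, L.w, L.w.conjugate g, ?_, L.z_mem.2,
    fun e => hne (L.w g e), fun e => hne ?_, ?_⟩
  · rw [L.s.hH]
    exact (((setting_conjugate L.s g).hH z).mp L.z_mem.2).symm
  · rw [mem_map_conj] at e
    have h1 := L.w.eq_of_mem rfl e
    calc g * z * g⁻¹ = g * (g⁻¹ * z * g) * g⁻¹ := by rw [h1]
      _ = z := by group
  · exact Nat.card_congr (Subgroup.equivMapOfInjective E _ (MulAut.conj g).injective).toEquiv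

omit [Finite G] in
theorem mem_A_of_commute (L : Local H E z n μ h g) {x : G} (hx : x ∈ E) (hc : Commute x h) : x ∈ (E ⊓ Subgroup.map (MulEquiv.toMonoidHom (MulAut.conj g)) H) :=
  mem_inf.mpr ⟨hx, mem_map_conj.mpr (L.hfix x hx hc)⟩

omit [Finite G] in
theorem mem_A_of_sq (L : Local H E z n μ h g) (h2 : h * h = 1) {x : G} (hx : x ∈ E)
    (hd : eps h x * eps h x = 1) : eps h x ∈ (E ⊓ Subgroup.map (MulEquiv.toMonoidHom (MulAut.conj g)) H) := by
  refine L.mem_A_of_commute (eps_mem L.s L.hh hx) ?_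
  have e := eps_inv_conj h2 x
  rw [inv_eq_of_mul_eq_one_right hd] at e
  calc eps h x * h = h * eps h x * h * h := by rw [e]
    _ = h * eps h x := by rw [mul_assoc, h2, mul_one]

/-- The configuration `|E : C_E(a)| = 8` with kernel of index two does not occur. -/
theorem false_of_index_two (L : Local H E z n μ h g) (h2 : h * h = 1) (hcE : Nat.card E = 128)
    (hcA : Nat.card ↥(E ⊓ Subgroup.map (MulEquiv.toMonoidHom (MulAut.conj g)) H) = 16) (hab : ∀ x ∈ (E ⊓ Subgroup.map (MulEquiv.toMonoidHom (MulAut.conj g)) H), ∀ y ∈ (E ⊓ Subgroup.map (MulEquiv.toMonoidHom (MulAut.conj g)) H), Commute x y)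
    (U : Subgroup G) (hUE : U ≤ E) (hU : ∀ x ∈ E, (x ∈ U ↔ eps h x ∈ (E ⊓ Subgroup.map (MulEquiv.toMonoidHom (MulAut.conj g)) H))) (hcU : Nat.card U = 64) :
    False := by
  have hzA := L.z_mem
  obtain ⟨x₀, hx₀E, hx₀U⟩ : ∃ x ∈ E, x ∉ U := by
    by_contra hc
    push Not at hc
    have := Subgroup.card_le_of_le hc
    omega
  have hAU : (E ⊓ Subgroup.map (MulEquiv.toMonoidHom (MulAut.conj g)) H) ≤ U := fun x hx => (hU x hx.1).mpr (L.eps_A x hx.1 hx)
  -- squares on `U`
  have hsqU : ∀ p ∈ U, eps h p * eps h p = 1 := by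
    intro p hp
    refine (L.s.sq _ (eps_mem L.s L.hh (hUE hp))).resolve_right fun hpz => ?_
    have hx0z : eps h x₀ * eps h x₀ = z := (L.s.sq _ (eps_mem L.s L.hh hx₀E)).resolve_left fun e =>
      hx₀U ((hU x₀ hx₀E).mpr (L.mem_A_of_sq h2 hx₀E e))
    apply hx₀U
    have hmem : x₀ * p ∈ U := (hU _ (mul_mem hx₀E (hUE hp))).mpr (L.mem_A_of_sq h2 (mul_mem hx₀E (hUE hp)) (by
      rw [eps_mul L.s L.hh hx₀E (hUE hp)]
      have hd := eps_mem L.s L.hh hx₀E
      have hc := eps_comm L.s L.hh h2 (hUE hp) hx₀E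
      have hi : ∀ w ∈ E, w * ⁅eps h x₀, p⁆ = ⁅eps h x₀, p⁆ * w := fun w hw => com_central L.s hd (hUE hp) hw
      set i := ⁅eps h x₀, p⁆ with hidef
      set u := eps h p
      set v := eps h x₀
      calc u * v * i * (u * v * i) = u * v * (i * (u * v)) * i := by group
        _ = u * v * (u * v) * (i * i) := by
            rw [show i * (u * v) = u * v * i from
              (hi _ (mul_mem (eps_mem L.s L.hh (hUE hp)) hd)).symm]; group
        _ = u * (v * u) * v := by rw [hidef, com_sq L.s hd (hUE hp)]; group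
        _ = (u * u) * (v * v) := by rw [← hc.eq]; group
        _ = 1 := by rw [hpz, hx0z, L.s.z2]))
    exact (U.mul_mem_cancel_right hp).mp hmem
  have hCA : E ⊓ centralizer (((E ⊓ Subgroup.map (MulEquiv.toMonoidHom (MulAut.conj g)) H) : Subgroup G) : Set G) = (E ⊓ Subgroup.map (MulEquiv.toMonoidHom (MulAut.conj g)) H) := by
    symm
    refine eq_of_le_of_card_ge (fun x hx => mem_inf.mpr ⟨hx.1, mem_centralizer_iff.mpr fun y hy =>
      (hab y hy x hx).eq⟩) ?_
    have := card_cent L.s (inf_le_left : (E ⊓ Subgroup.map (MulEquiv.toMonoidHom (MulAut.conj g)) H) ≤ E) hzA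
    rw [hcE, hcA] at this
    omega
  -- the element `j`
  obtain ⟨α, hα, hj1⟩ : ∃ α ∈ (E ⊓ Subgroup.map (MulEquiv.toMonoidHom (MulAut.conj g)) H), eps h α ∉ zpowers z := by
    by_contra hc
    push Not at hc
    apply hx₀U
    rw [hU x₀ hx₀E, ← hCA]
    refine mem_inf.mpr ⟨eps_mem L.s L.hh hx₀E, mem_centralizer_iff.mpr fun y hy => ?_⟩
    have h1 := eps_pair L.s L.hh hx₀E hy.1
    have h2' := hc y hy
    have hyz : ∀ w ∈ E, ⁅w, eps h y⁆ = 1 := fun w hw =>
      commutatorElement_eq_one_iff_mul_comm.mpr (commute_of_z L.s h2' hw).symm.eq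
    rw [hyz _ (eps_mem L.s L.hh hx₀E), hyz _ hx₀E, mul_one, one_mul] at h1
    exact (mul_mem_comm L.s h1).symm
  set j := eps h α with hj
  have hjA : j ∈ (E ⊓ Subgroup.map (MulEquiv.toMonoidHom (MulAut.conj g)) H) := L.eps_A α hα.1 hα
  have hj2 : j * j = 1 := hsqU α (hAU hα)
  set Y := adj (zpowers z) j hj2 (fun d hd => (commute_of_z L.s hd hjA.1).eq) with hY
  have hYc : Nat.card Y = 4 := by rw [card_adj hj1, card_zpowers L.s]
  have hYE : Y ≤ E := by
    rintro x (hx | hx)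
    · exact zpowers_le.mpr L.s.zE hx
    · exact (E.mul_mem_cancel_right hjA.1).mp (zpowers_le.mpr L.s.zE hx)
  have hzU : z ∈ U := hAU hzA
  have hYU : Y = E ⊓ centralizer (U : Set G) := by
    refine eq_of_le_of_card_ge (fun x hx => mem_inf.mpr ⟨hYE hx, mem_centralizer_iff.mpr fun p hp => ?_⟩) ?_
    · have hjp : Commute p j := by
        have h1 := eps_pair L.s L.hh hα.1 (hUE hp)
        rw [commutatorElement_eq_one_iff_mul_comm.mpr (eps_comm L.s L.hh h2 hα.1 (hUE hp)).eq,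
          commutatorElement_eq_one_iff_mul_comm.mpr (hab α hα _ ((hU p (hUE hp)).mp hp)).eq,
          one_mul, mul_one] at h1
        exact (mul_mem_comm L.s h1).symm
      rcases hx with hx | hx
      · exact ((commute_of_z L.s hx (hUE hp)).symm).eq
      · have h3 := ((commute_of_z L.s hx (hUE hp)).symm).mul_right hjp.inv_right
        rw [mul_inv_cancel_right] at h3
        exact h3.eq
    · have := card_cent L.s hUE hzU
      rw [hcE, hcU] at this
      omega
  obtain ⟨R, hRE, hzR, hRc, hR⟩ := exists_abelian L.s L.hh h2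
  have hR16 : Nat.card R ≤ 16 := by
    have := card_abelian L.s hRE hzR hRc
    rw [hcE] at this
    by_contra hlt
    push Not at hlt
    have := Nat.mul_lt_mul'' hlt hlt
    omega
  let R₀ : Subgroup G :=
    { carrier := {x | x ∈ R ∧ x * x = 1}
      one_mem' := ⟨one_mem R, one_mul 1⟩
      mul_mem' := fun {x y} hx hy => ⟨mul_mem hx.1 hy.1, by
        calc x * y * (x * y) = x * (y * x) * y := by group
          _ = x * x * (y * y) := by rw [(hRc y hy.1 x hx.1).eq]; group
          _ = 1 := by rw [hx.2, hy.2, one_mul]⟩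
      inv_mem' := fun {x} hx => ⟨inv_mem hx.1, by rw [← mul_inv_rev, hx.2, inv_one]⟩ }
  have hR8 : Nat.card R₀ * 2 ≤ Nat.card R := by
    have h0 : R₀ ≤ R := fun x hx => hx.1
    have h1 := card_mul_index (R₀.subgroupOf R)
    rw [Nat.card_congr (subgroupOfEquivOfLe h0).toEquiv] at h1
    rw [← h1]
    refine Nat.mul_le_mul_left _ ?_
    by_contra hlt
    have hne : (R₀.subgroupOf R).index ≠ 0 := index_ne_zero_of_finite
    have h1' : R₀.relIndex R = 1 := by show (R₀.subgroupOf R).index = 1; omega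
    exact hx₀U ((hU x₀ hx₀E).mpr (L.mem_A_of_sq h2 hx₀E (relIndex_eq_one.mp h1' (hR x₀ hx₀E)).2))
  have hYR : Y ≤ R₀ := by
    have hz0 : z ∈ R₀ := ⟨hzR, L.s.z2⟩
    have hj0 : j ∈ R₀ := ⟨hR α hα.1, hj2⟩
    rintro x (hx | hx)
    · exact zpowers_le.mpr hz0 hx
    · exact (R₀.mul_mem_cancel_right hj0).mp (zpowers_le.mpr hz0 hx)
  have hYcomm : ∀ y ∈ Y, ∀ p ∈ U, Commute p y := fun y hy p hp => by
    rw [hYU] at hy
    exact mem_centralizer_iff.mp hy.2 p hp
  have hUY : ∀ p ∈ U, eps h p ∈ Y := by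
    intro p hp
    by_contra hq
    set q := eps h p with hqdef
    have hq2 : q * q = 1 := hsqU p hp
    have hqR : q ∈ R₀ := ⟨hR p (hUE hp), hq2⟩
    set Y8 := adj Y q hq2 (fun d hd => (hRc d (hYR hd).1 q hqR.1).eq) with hY8
    have h8 : Y8 = R₀ := by
      refine eq_of_le_of_card_ge ?_ ?_
      · rintro x (hx | hx)
        · exact hYR hx
        · exact (R₀.mul_mem_cancel_right hqR).mp (hYR hx)
      · rw [card_adj hq, hYc]; omega
    apply hq
    rw [hYU]
    refine mem_inf.mpr ⟨eps_mem L.s L.hh (hUE hp), mem_centralizer_iff.mpr fun p' hp' => ?_⟩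
    have h1 := eps_pair L.s L.hh (hUE hp) (hUE hp')
    rw [commutatorElement_eq_one_iff_mul_comm.mpr (eps_comm L.s L.hh h2 (hUE hp) (hUE hp')).eq,
      one_mul] at h1
    have hp'8 : eps h p' ∈ Y8 := by rw [h8]; exact ⟨hR p' (hUE hp'), hsqU p' hp'⟩
    have hpp : Commute p (eps h p') := by
      have hpq : Commute p q := (mul_mem_comm L.s (eps_self L.s L.hh h2 (hUE hp) hq2)).symm
      rcases hp'8 with h' | h'
      · exact hYcomm _ h' p hp
      · have h3 := (hYcomm _ h' p hp).mul_right hpq.inv_right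
        rw [mul_inv_cancel_right] at h3
        exact h3
    rw [commutatorElement_eq_one_iff_mul_comm.mpr hpp.eq, mul_one] at h1
    exact (mul_mem_comm L.s h1).symm
  -- descend to the centralizer of `h`
  let C₁ : Subgroup G :=
    { carrier := {p | p ∈ U ∧ eps h p ∈ zpowers z}
      one_mem' := ⟨one_mem U, by simp [eps]⟩
      mul_mem' := fun {x y} hx hy => ⟨mul_mem hx.1 hy.1, by
        rw [eps_mul L.s L.hh (hUE hx.1) (hUE hy.1)]
        refine mul_mem (mul_mem hy.2 hx.2) ?_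
        rcases com_cases L.s (eps_mem L.s L.hh (hUE hx.1)) (hUE hy.1) with e | e <;> rw [e]
        · exact one_mem _
        · exact mem_zpowers z⟩
      inv_mem' := fun {x} hx => ⟨inv_mem hx.1, by
        have e := eps_mul L.s L.hh (hUE hx.1) (inv_mem (hUE hx.1))
        rw [mul_inv_cancel, show eps h 1 = 1 by simp [eps]] at e
        have hc : ⁅eps h x, x⁻¹⁆ ∈ zpowers z := by
          rcases com_cases L.s (eps_mem L.s L.hh (hUE hx.1)) (inv_mem (hUE hx.1)) with e' | e' <;> rw [e']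
          · exact one_mem _
          · exact mem_zpowers z
        rw [mul_assoc] at e
        rw [eq_inv_of_mul_eq_one_left e.symm]
        exact inv_mem (mul_mem hx.2 hc)⟩ }
  have hzc' : ∀ p ∈ U, p ∉ C₁ → eps h p * j ∈ zpowers z := fun p hp hpn =>
    (hUY p hp).resolve_left fun e => hpn ⟨hp, e⟩
  have hi1 := OrderJTwo.card_le_two_mul U C₁ (fun x hx => hx.1) (fun x hx y hy hxn hyn => ⟨mul_mem hx hy, by
    rw [eps_mul L.s L.hh (hUE hx) (hUE hy)]
    refine mul_mem ?_ ?_
    · have hj' : j⁻¹ = j := inv_eq_of_mul_eq_one_right hj2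
      have hc := eps_comm L.s L.hh h2 hα.1 (hUE hx)
      have e : eps h y * eps h x = (eps h y * j) * (eps h x * j) := by
        calc eps h y * eps h x = eps h y * (j * j) * eps h x := by rw [hj2, mul_one]
          _ = eps h y * j * (j * eps h x) := by group
          _ = _ := by rw [hc.eq]
      rw [e]
      exact mul_mem (hzc' y hy hyn) (hzc' x hx hxn)
    · rcases com_cases L.s (eps_mem L.s L.hh (hUE hx)) (hUE hy) with e | e <;> rw [e]
      · exact one_mem _
      · exact mem_zpowers z⟩)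
  have hi2 := OrderJTwo.card_le_two_mul C₁ (C₁ ⊓ centralizer ({h} : Set G)) inf_le_left
    (fun x hx y hy hxn hyn => mem_inf.mpr ⟨mul_mem hx hy, mem_centralizer_singleton_iff.mpr (by
      have key : ∀ w ∈ C₁, w ∉ C₁ ⊓ centralizer ({h} : Set G) → eps h w = z :=
        fun w hw hwn => (z_cases L.s hw.2).resolve_left fun e =>
          hwn (mem_inf.mpr ⟨hw, mem_centralizer_singleton_iff.mpr (eps_eq_one_iff.mp e).eq⟩)
      exact (eps_eq_one_iff.mp (eps_z_sq L.s L.hh (hUE hx.1) (hUE hy.1) (key x hx hxn) (key y hy hyn))).eq)⟩)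
  have hWA : C₁ ⊓ centralizer ({h} : Set G) = (E ⊓ Subgroup.map (MulEquiv.toMonoidHom (MulAut.conj g)) H) := by
    refine eq_of_le_of_card_ge (fun x hx =>
      L.mem_A_of_commute (hUE hx.1.1) (mem_centralizer_singleton_iff.mp hx.2)) ?_
    omega
  have hαW : α ∈ C₁ ⊓ centralizer ({h} : Set G) := by rw [hWA]; exact hα
  apply hj1
  rw [hj, eps_eq_one_iff.mpr (mem_centralizer_singleton_iff.mp hαW.2)]
  exact one_mem _

/-- The signs on the orbit multiply to `1`. -/
theorem orbit_prod (L : Local H E z n μ h g) [((E ⊓ Subgroup.map (MulEquiv.toMonoidHom (MulAut.conj g)) H).subgroupOf E).Normal]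
    [Fintype (E ⧸ (E ⊓ Subgroup.map (MulEquiv.toMonoidHom (MulAut.conj g)) H).subgroupOf E)] (Fq : E ⧸ (E ⊓ Subgroup.map (MulEquiv.toMonoidHom (MulAut.conj g)) H).subgroupOf E → ℤˣ)
    (hFq : ∀ e : E, Fq (e : E ⧸ (E ⊓ Subgroup.map (MulEquiv.toMonoidHom (MulAut.conj g)) H).subgroupOf E) = lam μ (g⁻¹ * ((e : G)⁻¹ * h * e) * g)) :
    ∏ q, Fq q = 1 := by
  classical
  have P := L.pair
  set ψ := Psi L.s L.z_mem L.hh L.eps_A with hψ
  have hgh' : h ∈ (Subgroup.map (MulEquiv.toMonoidHom (MulAut.conj g)) H) := mem_map_conj.mpr L.hgh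
  have hcH : ∀ x ∈ (Subgroup.map (MulEquiv.toMonoidHom (MulAut.conj g)) H), g⁻¹ * x * g ∈ H := fun x hx => mem_map_conj.mp hx
  have cmul : ∀ x y, g⁻¹ * (x * y) * g = g⁻¹ * x * g * (g⁻¹ * y * g) := fun x y => by group
  let χ : G → ℤˣ := fun x => lam μ (g⁻¹ * x * g)
  have χmul : ∀ x y, x ∈ (Subgroup.map (MulEquiv.toMonoidHom (MulAut.conj g)) H) → y ∈ (Subgroup.map (MulEquiv.toMonoidHom (MulAut.conj g)) H) → χ (x * y) = χ x * χ y := fun x y hx hy => by
    show lam μ _ = _
    rw [cmul, lam_mul (hcH x hx) (hcH y hy)]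
  have hker : ∀ e : E, ((e : E ⧸ (E ⊓ Subgroup.map (MulEquiv.toMonoidHom (MulAut.conj g)) H).subgroupOf E)) ∈ ψ.ker ↔ eps h (e : G) ∈ (E ⊓ Subgroup.map (MulEquiv.toMonoidHom (MulAut.conj g)) H) := fun e => by
    rw [MonoidHom.mem_ker, hψ, Psi_mk, QuotientGroup.eq_one_iff, mem_subgroupOf]
  have hoff : ∀ q, q ∉ ψ.ker → Fq q = 1 := by
    intro q hq
    induction q using QuotientGroup.induction_on with
    | _ e =>
      rw [hFq, conj_eq_mul_eps (h := h) (e := (e : G)), lam_of_not_mem]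
      intro hm
      apply hq
      rw [hker]
      exact mem_inf.mpr ⟨eps_mem L.s L.hh e.2, (Subgroup.mul_mem_cancel_left _ hgh').mp (mem_map_conj.mpr hm)⟩
  have hon : ∀ e : E, eps h (e : G) ∈ (E ⊓ Subgroup.map (MulEquiv.toMonoidHom (MulAut.conj g)) H) → Fq (e : E ⧸ (E ⊓ Subgroup.map (MulEquiv.toMonoidHom (MulAut.conj g)) H).subgroupOf E) = χ h * χ (eps h e) :=
    fun e he => by rw [hFq, conj_eq_mul_eps (h := h) (e := (e : G))]; exact χmul h _ hgh' he.2
  obtain ⟨q₀, hq₀⟩ : ∃ q : E ⧸ (E ⊓ Subgroup.map (MulEquiv.toMonoidHom (MulAut.conj g)) H).subgroupOf E, q ≠ 1 := by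
    obtain ⟨e, he, hne⟩ := L.hmv
    refine ⟨((⟨e, he⟩ : E) : E ⧸ (E ⊓ Subgroup.map (MulEquiv.toMonoidHom (MulAut.conj g)) H).subgroupOf E), fun h' => hne ?_⟩
    rw [QuotientGroup.eq_one_iff, mem_subgroupOf] at h'
    exact hcH e h'.2
  obtain ⟨m, hm⟩ := L.htwo
  have hbot := psi_ker_ne_bot L.s L.z_mem L.hh L.eps_A hm hq₀
  have hsqQ := quot_sq L.s L.z_mem (A := (E ⊓ Subgroup.map (MulEquiv.toMonoidHom (MulAut.conj g)) H))
  -- reduce to the kernel
  have hred : ∏ q, Fq q = ∏ v : ψ.ker, χ h * (χ h * Fq v) := by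
    simp only [← mul_assoc, ← pow_two, Int.units_sq, one_mul]
    rw [← Finset.prod_subset (Finset.subset_univ (Finset.univ.filter (· ∈ ψ.ker)))
      (fun q _ hq => hoff q fun h' => hq (Finset.mem_filter.mpr ⟨Finset.mem_univ _, h'⟩))]
    exact Finset.prod_subtype _ (fun q => by simp only [Finset.mem_filter, Finset.mem_univ, true_and]) Fq
  rw [hred]
  let G' : ψ.ker → ℤˣ := fun v => χ h * Fq v
  have hG' : ∀ (e : E) (he : (e : E ⧸ (E ⊓ Subgroup.map (MulEquiv.toMonoidHom (MulAut.conj g)) H).subgroupOf E) ∈ ψ.ker), G' ⟨_, he⟩ = χ (eps h e) :=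
    fun e he => by
      show χ h * Fq _ = _
      rw [hon e ((hker e).mp he), ← mul_assoc, ← pow_two, Int.units_sq, one_mul]
  let β : ψ.ker → ψ.ker → ℤˣ := fun x y => G' (x * y) * G' x * G' y
  have hGmul : ∀ x y, G' (x * y) = G' x * G' y * β x y := fun x y => by
    show _ = G' x * G' y * (G' (x * y) * G' x * G' y)
    rw [mul_assoc (G' (x * y)), mul_left_comm, ← pow_two, Int.units_sq, mul_one]
  have hβ : ∀ (x y : E) (hx : (x : E ⧸ (E ⊓ Subgroup.map (MulEquiv.toMonoidHom (MulAut.conj g)) H).subgroupOf E) ∈ ψ.ker)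
      (hy : (y : E ⧸ (E ⊓ Subgroup.map (MulEquiv.toMonoidHom (MulAut.conj g)) H).subgroupOf E) ∈ ψ.ker), β ⟨_, hx⟩ ⟨_, hy⟩ = χ ⁅eps h (x : G), (y : G)⁆ := by
    intro x y hx hy
    show G' ⟨_, mul_mem hx hy⟩ * _ * _ = _
    rw [hG' x hx, hG' y hy]
    have e := hG' (x * y) (by rw [QuotientGroup.mk_mul]; exact mul_mem hx hy)
    simp only [QuotientGroup.mk_mul] at e
    have hx' := (hker x).mp hx
    have hy' := (hker y).mp hy
    rw [e, Subgroup.coe_mul, eps_mul L.s L.hh x.2 y.2,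
      χmul _ _ (mul_mem hy'.2 hx'.2) (L.comm_mem (eps_mem L.s L.hh x.2) y.2).2, χmul _ _ hy'.2 hx'.2]
    calc χ (eps h y) * χ (eps h x) * χ ⁅eps h (x : G), (y : G)⁆ * χ (eps h x) * χ (eps h y)
        = χ ⁅eps h (x : G), (y : G)⁆ * (χ (eps h x) * χ (eps h x)) * (χ (eps h y) * χ (eps h y)) := by
          ac_rfl
      _ = _ := by simp only [← pow_two, Int.units_sq, mul_one]
  have hβl : ∀ x y w, β (x * y) w = β x w * β y w := by
    rintro ⟨x, hx⟩ ⟨y, hy⟩ ⟨w, hw⟩
    induction x using QuotientGroup.induction_on with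
    | _ x =>
    induction y using QuotientGroup.induction_on with
    | _ y =>
    induction w using QuotientGroup.induction_on with
    | _ w =>
      have hxy : ((x * y : E) : E ⧸ (E ⊓ Subgroup.map (MulEquiv.toMonoidHom (MulAut.conj g)) H).subgroupOf E) ∈ ψ.ker := by
        rw [QuotientGroup.mk_mul]; exact mul_mem hx hy
      have e := hβ (x * y) w hxy hw
      simp only [QuotientGroup.mk_mul] at e
      show β ⟨_, mul_mem hx hy⟩ _ = _
      rw [e, hβ x w hx hw, hβ y w hy hw]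
      have hdx := eps_mem L.s L.hh x.2
      have hdy := eps_mem L.s L.hh y.2
      have hi : ⁅⁅eps h (x : G), (y : G)⁆, (w : G)⁆ = 1 := commutatorElement_eq_one_iff_mul_comm.mpr
        (com_central L.s hdx y.2 w.2).symm
      rw [Subgroup.coe_mul, eps_mul L.s L.hh x.2 y.2,
        com_mul_left L.s (mul_mem hdy hdx) (L.comm_mem hdx y.2).1 w.2,
        com_mul_left L.s hdy hdx w.2, hi, mul_one,
        χmul _ _ (L.comm_mem hdy w.2).2 (L.comm_mem hdx w.2).2, mul_comm]
  refine prod_quad (fun v => Subtype.ext (hsqQ v)) ?_ G' β hβl hGmul ?_ (χ h)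
  · obtain ⟨v, hv, hne⟩ := (Subgroup.bot_or_exists_ne_one _).resolve_left hbot
    exact ⟨⟨v, hv⟩, fun e => hne (congrArg Subtype.val e)⟩
  by_cases hnab : ∃ x ∈ (E ⊓ Subgroup.map (MulEquiv.toMonoidHom (MulAut.conj g)) H), ∃ y ∈ (E ⊓ Subgroup.map (MulEquiv.toMonoidHom (MulAut.conj g)) H), x * y = y * x * z
  · obtain ⟨α₁, hα₁, α₂, hα₂, h12⟩ := hnab
    right; right
    rintro ⟨q, hq⟩
    induction q using QuotientGroup.induction_on with
    | _ e =>
      rw [hG' e hq, show χ (eps h (e : G)) = lam μ (eps h (e : G)) from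
        P.lam_eq hα₁ hα₂ h12 μ rfl ((hker e).mp hq)]
      have he : (e : G) ∈ H := L.s.hEH e.2
      have hm : eps h (e : G) = h⁻¹ * (e : G)⁻¹ * (h * e) := by simp only [eps]; group
      rw [hm, lam_mul (mul_mem (inv_mem L.hh) (inv_mem he)) (mul_mem L.hh he),
        lam_mul (inv_mem L.hh) (inv_mem he), lam_mul L.hh he, lam_inv L.hh, lam_inv he, ← pow_two,
        Int.units_sq]
  push Not at hnab
  have hab : ∀ x ∈ (E ⊓ Subgroup.map (MulEquiv.toMonoidHom (MulAut.conj g)) H), ∀ y ∈ (E ⊓ Subgroup.map (MulEquiv.toMonoidHom (MulAut.conj g)) H), Commute x y := fun x hx y hy =>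
    (L.s.comm x hx.1 y hy.1).resolve_right (hnab x hx y hy)
  have hA16 := card_abelian L.s (inf_le_left : (E ⊓ Subgroup.map (MulEquiv.toMonoidHom (MulAut.conj g)) H) ≤ E) L.z_mem hab
  have hAQ := card_eq_card_quotient_mul_card_subgroup ((E ⊓ Subgroup.map (MulEquiv.toMonoidHom (MulAut.conj g)) H).subgroupOf E)
  rw [Nat.card_congr (subgroupOfEquivOfLe (inf_le_left : (E ⊓ Subgroup.map (MulEquiv.toMonoidHom (MulAut.conj g)) H) ≤ E)).toEquiv, L.card] at hAQ
  rw [L.card] at hA16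
  have hn3 := L.hn
  have hQn : 2 ^ n ≤ Nat.card (E ⧸ (E ⊓ Subgroup.map (MulEquiv.toMonoidHom (MulAut.conj g)) H).subgroupOf E) := by
    by_contra hlt
    push Not at hlt
    have hA' : Nat.card ↥(E ⊓ Subgroup.map (MulEquiv.toMonoidHom (MulAut.conj g)) H) ≤ 2 ^ (n + 1) := by
      by_contra hlt'
      push Not at hlt'
      have := Nat.mul_lt_mul'' hlt' hlt'
      rw [← pow_add, show n + 1 + (n + 1) = 2 * n + 1 + 1 by omega, pow_succ'] at this
      omega
    have := Nat.mul_lt_mul_of_lt_of_le hlt hA' (by positivity)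
    rw [← hAQ, ← pow_add, show n + (n + 1) = 2 * n + 1 by omega] at this
    exact lt_irrefl _ this
  have hQ8 : 8 ≤ Nat.card (E ⧸ (E ⊓ Subgroup.map (MulEquiv.toMonoidHom (MulAut.conj g)) H).subgroupOf E) :=
    le_trans (le_trans (by norm_num) (Nat.pow_le_pow_right two_pos hn3)) hQn
  rcases L.hcase with h2 | ⟨hinv, hmin⟩
  · -- an involution
    left
    have hidx := OrderJTwo.card_le_two_mul (⊤ : Subgroup (E ⧸ (E ⊓ Subgroup.map (MulEquiv.toMonoidHom (MulAut.conj g)) H).subgroupOf E)) ψ.ker le_top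
      (fun a _ b _ ha hb => by
        induction a using QuotientGroup.induction_on with
        | _ x =>
        induction b using QuotientGroup.induction_on with
        | _ y =>
          rw [← QuotientGroup.mk_mul, hker]
          rw [hker] at ha hb
          have hx := (L.s.sq _ (eps_mem L.s L.hh x.2)).resolve_left fun e => ha (L.mem_A_of_sq h2 x.2 e)
          have hy := (L.s.sq _ (eps_mem L.s L.hh y.2)).resolve_left fun e => hb (L.mem_A_of_sq h2 y.2 e)
          refine L.mem_A_of_sq h2 (mul_mem x.2 y.2) ?_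
          rw [Subgroup.coe_mul, eps_mul L.s L.hh x.2 y.2]
          have hc := eps_comm L.s L.hh h2 y.2 x.2
          have hd := eps_mem L.s L.hh x.2
          set i := ⁅eps h (x : G), (y : G)⁆ with hidef
          set u := eps h (y : G)
          set v := eps h (x : G)
          calc u * v * i * (u * v * i) = u * v * (i * (u * v)) * i := by group
            _ = u * v * (u * v) * (i * i) := by
                rw [show i * (u * v) = u * v * i from
                  (com_central L.s hd y.2 (mul_mem (eps_mem L.s L.hh y.2) hd)).symm]; group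
            _ = u * (v * u) * v := by rw [hidef, com_sq L.s hd y.2]; group
            _ = (u * u) * (v * v) := by rw [← hc.eq]; group
            _ = 1 := by rw [hx, hy, L.s.z2])
    rw [Subgroup.card_top] at hidx
    by_contra hlt
    push Not at hlt
    -- powers of two
    obtain ⟨i, -, hi⟩ := (Nat.dvd_prime_pow Nat.prime_two).mp (Dvd.intro _ hAQ.symm)
    obtain ⟨k, -, hk⟩ := (Nat.dvd_prime_pow Nat.prime_two).mp
      ((hi ▸ Subgroup.card_subgroup_dvd_card ψ.ker : Nat.card ψ.ker ∣ 2 ^ i))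
    have hi' : i < 4 := by
      by_contra hge
      push Not at hge
      have := Nat.pow_le_pow_right two_pos hge
      rw [← hi] at this
      omega
    have hni : n ≤ i := (Nat.pow_le_pow_iff_right one_lt_two).mp (hi ▸ hQn)
    obtain rfl : i = 3 := by omega
    obtain rfl : n = 3 := by omega
    rw [show (2 : ℕ) ^ 3 = 8 from rfl] at hi
    rw [show (2 : ℕ) ^ (2 * 3 + 1) = 128 from rfl, hi] at hAQ
    have hk2 : Nat.card ψ.ker = 4 := by
      have : k < 3 := by
        by_contra hge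
        push Not at hge
        have := Nat.pow_le_pow_right two_pos hge
        omega
      interval_cases k <;> omega
    refine L.false_of_index_two h2 (by rw [L.card]; norm_num) (by omega) hab (pre ψ.ker) (map_subtype_le _)
      (fun x hx => ?_) (by rw [card_pre inf_le_left, hk2]; omega)
    rw [mem_pre]
    exact ⟨fun ⟨_, h'⟩ => (hker ⟨x, hx⟩).mp h', fun h' => ⟨hx, (hker ⟨x, hx⟩).mpr h'⟩⟩
  -- no involution outside the kernel
  have hlz : ∀ x y : G, x ∈ E → y ∈ E → χ ⁅x, y⁆ = 1 := fun x y hx hy => by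
    refine hinv _ (hcH _ (L.comm_mem hx hy).2) ?_
    rw [← cmul, com_sq L.s hx hy, mul_one, inv_mul_cancel]
  right
  by_cases hk4 : 4 ≤ Nat.card ψ.ker
  · refine .inl ⟨?_, hk4⟩
    rintro ⟨x, hx⟩ ⟨y, hy⟩
    induction x using QuotientGroup.induction_on with
    | _ x =>
    induction y using QuotientGroup.induction_on with
    | _ y => rw [hβ x y hx hy]; exact hlz _ _ (eps_mem L.s L.hh x.2) y.2
  right
  by_contra hG1
  push Not at hG1
  obtain ⟨v, hv⟩ := hG1
  have hGone : G' 1 = 1 := by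
    have e := hG' 1 (by rw [QuotientGroup.mk_one]; exact one_mem _)
    simp only [QuotientGroup.mk_one, Subgroup.coe_one] at e
    rw [show (1 : ψ.ker) = ⟨1, one_mem _⟩ from rfl, e, show eps h (1 : G) = 1 by simp [eps]]
    show lam μ (g⁻¹ * 1 * g) = 1
    rw [mul_one, inv_mul_cancel, lam_of_mem (one_mem H)]; exact map_one μ
  have hv1 : v ≠ 1 := fun e => hv (e ▸ hGone)
  have hk2 : Nat.card ψ.ker = 2 := by
    obtain ⟨t, ht⟩ := card_two_dvd (Q := ψ.ker) hv1 (Subtype.ext (hsqQ v))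
    have : 0 < Nat.card ψ.ker := Nat.card_pos
    omega
  have huniq : ∀ w : ψ.ker, w ≠ 1 → w = v := fun w hw =>
    ((Nat.card_eq_two_iff' (1 : ψ.ker)).mp hk2).unique hw hv1
  -- an element of order four
  have hord : ∀ e : E, eps h (e : G) ∈ (E ⊓ Subgroup.map (MulEquiv.toMonoidHom (MulAut.conj g)) H) → χ (eps h e) ≠ 1 → eps h (e : G) * eps h e ≠ 1 ∧ h ^ 4 = 1 := by
    intro e he hne
    refine ⟨fun h' => hne (hinv _ (hcH _ he.2) (by rw [← cmul, h', mul_one, inv_mul_cancel])),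
      hmin _ (hcH _ he.2) ?_ hne⟩
    have h4 : eps h (e : G) * eps h e * (eps h e * eps h e) = 1 := by
      rcases L.s.sq _ (eps_mem L.s L.hh e.2) with h' | h' <;> rw [h']
      · rw [mul_one]
      · exact L.s.z2
    rw [show (4 : ℕ) = 2 + 2 from rfl, pow_add, pow_two, ← cmul, ← cmul, h4, mul_one, inv_mul_cancel]
  have hh4 : h ^ 4 = 1 := by
    obtain ⟨w, hw⟩ := v
    induction w using QuotientGroup.induction_on with
    | _ e => exact (hord e ((hker e).mp hw) (by rwa [hG' e hw] at hv)).2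
  -- the `2`-dimensional fixed space
  have hM : Nat.card (pre ψ.range) * 2 = Nat.card E := by
    rw [card_pre inf_le_left]
    have h3 := card_mul_index ψ.ker
    rw [index_ker, hk2] at h3
    rw [L.card, hAQ, ← h3]
    ring
  set Yc := E ⊓ centralizer ((pre ψ.range : Subgroup G) : Set G) with hYc
  have hzM : z ∈ pre ψ.range := mem_pre.mpr ⟨L.s.zE, by
    rw [(QuotientGroup.eq_one_iff _).mpr (show (⟨z, L.s.zE⟩ : E) ∈ (E ⊓ Subgroup.map (MulEquiv.toMonoidHom (MulAut.conj g)) H).subgroupOf E from L.z_mem)]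
    exact one_mem _⟩
  have hY4 : Nat.card Yc = 4 := by
    have := card_cent L.s (X := pre ψ.range) (map_subtype_le _) hzM
    rw [← hM] at this
    have hpos : 0 < Nat.card (pre ψ.range) := Nat.card_pos
    refine Nat.eq_of_mul_eq_mul_left hpos ?_
    rw [hYc]
    linarith
  have hfixY : ∀ y ∈ (E ⊓ Subgroup.map (MulEquiv.toMonoidHom (MulAut.conj g)) H), eps h y ∈ zpowers z → y ∈ Yc := by
    intro y hy hdy
    refine mem_inf.mpr ⟨hy.1, mem_centralizer_iff.mpr fun x hx => ?_⟩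
    obtain ⟨hxE, q, hq⟩ := mem_pre.mp hx
    induction q using QuotientGroup.induction_on with
    | _ e =>
      rw [hψ, Psi_mk, QuotientGroup.eq, mem_subgroupOf] at hq
      have hq' : (eps h (e : G))⁻¹ * x ∈ (E ⊓ Subgroup.map (MulEquiv.toMonoidHom (MulAut.conj g)) H) := hq
      have h1 := eps_pair L.s L.hh hy.1 e.2
      have hd1 : ∀ w ∈ E, ⁅eps h y, w⁆ = 1 := fun w hw =>
        commutatorElement_eq_one_iff_mul_comm.mpr (commute_of_z L.s hdy hw).eq
      rw [hd1 _ (eps_mem L.s L.hh e.2), hd1 _ e.2, one_mul, one_mul] at h1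
      have h3 := ((show Commute y (eps h (e : G)) from mul_mem_comm L.s h1)).mul_right (hab y hy _ hq')
      rw [mul_inv_cancel_left] at h3
      exact h3.symm.eq
  -- an involution in that space
  let J : Subgroup G :=
    { carrier := {x | x ∈ (E ⊓ Subgroup.map (MulEquiv.toMonoidHom (MulAut.conj g)) H) ∧ x * x = 1}
      one_mem' := ⟨one_mem _, one_mul 1⟩
      mul_mem' := fun {x y} hx hy => ⟨mul_mem hx.1 hy.1, by
        calc x * y * (x * y) = x * (y * x) * y := by group
          _ = x * x * (y * y) := by rw [(hab y hy.1 x hx.1).eq]; group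
          _ = 1 := by rw [hx.2, hy.2, one_mul]⟩
      inv_mem' := fun {x} hx => ⟨inv_mem hx.1, by rw [← mul_inv_rev, hx.2, inv_one]⟩ }
  have hA8 : 8 ≤ Nat.card ↥(E ⊓ Subgroup.map (MulEquiv.toMonoidHom (MulAut.conj g)) H) := by
    have h1 := card_cent_invol L.s L.card P.aH P.s2.z2
    rw [show E ⊓ centralizer ({g * z * g⁻¹} : Set G) = (E ⊓ Subgroup.map (MulEquiv.toMonoidHom (MulAut.conj g)) H) by
      ext x; simp only [mem_inf, mem_centralizer_singleton_iff, P.s2.hH]] at h1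
    exact le_trans (le_trans (by norm_num) (Nat.pow_le_pow_right two_pos hn3)) h1
  have hJ := OrderJTwo.card_le_two_mul (E ⊓ Subgroup.map (MulEquiv.toMonoidHom (MulAut.conj g)) H) J (fun x hx => hx.1) (fun x hx y hy hxn hyn => ⟨mul_mem hx hy, by
    have hx2 := (L.s.sq x hx.1).resolve_left fun e => hxn ⟨hx, e⟩
    have hy2 := (L.s.sq y hy.1).resolve_left fun e => hyn ⟨hy, e⟩
    calc x * y * (x * y) = x * (y * x) * y := by group
      _ = x * x * (y * y) := by rw [(hab y hy x hx).eq]; group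
      _ = 1 := by rw [hx2, hy2, L.s.z2]⟩)
  have hJinv : ∀ x ∈ J, eps h x ∈ J := fun x hx => ⟨L.eps_A x hx.1.1 hx.1, by
    set p := h⁻¹ * x⁻¹ * h
    have e : eps h x = p * x := rfl
    have hp : p ∈ (E ⊓ Subgroup.map (MulEquiv.toMonoidHom (MulAut.conj g)) H) := by
      have := mul_mem (L.eps_A x hx.1.1 hx.1) (inv_mem hx.1)
      rwa [e, mul_inv_cancel_right] at this
    have hp2 : p * p = 1 := by
      calc p * p = h⁻¹ * (x⁻¹ * x⁻¹) * h := by simp only [p]; group
        _ = 1 := by rw [← mul_inv_rev, hx.2]; group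
    rw [e]
    calc p * x * (p * x) = p * (x * p) * x := by group
      _ = p * p * (x * x) := by rw [(hab x hx.1 p hp).eq]; group
      _ = 1 := by rw [hp2, hx.2, one_mul]⟩
  haveI := normal_of_z (A := zpowers z) L.s (mem_zpowers z)
  have hiter : ∀ x ∈ E, eps h (eps h (eps h (eps h x))) ∈ zpowers z := by
    intro x hx
    have hA' : ∀ w ∈ E, w ∈ zpowers z → eps h w ∈ zpowers z := fun w hw hwz => by
      rw [eps_eq_one_iff.mpr (commute_of_z L.s hwz L.s.zE |>.eq |> fun _ => by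
        rcases z_cases L.s hwz with rfl | rfl
        · exact Commute.one_left h
        · exact ((L.s.hH h).mp L.hh).symm)]
      exact one_mem _
    have h4' := psi_iterate_eq_one L.s (mem_zpowers z) L.hh hA' (j := 2) hh4
      ((⟨x, hx⟩ : E) : E ⧸ (zpowers z).subgroupOf E)
    simp only [show (2 : ℕ) ^ 2 = 4 from rfl, Function.iterate_succ_apply', Function.iterate_zero_apply,
      Psi_mk, QuotientGroup.eq_one_iff, mem_subgroupOf] at h4'
    exact h4'
  obtain ⟨w₀, hw₀, hw₀z, hw₀d⟩ : ∃ w ∈ J, w ∉ zpowers z ∧ eps h w ∈ zpowers z := by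
    obtain ⟨w, hw, hwz⟩ : ∃ w ∈ J, w ∉ zpowers z := by
      by_contra hc
      push Not at hc
      have h1 := Subgroup.card_le_of_le hc
      rw [card_zpowers L.s] at h1
      omega
    by_cases h1 : eps h w ∈ zpowers z
    · exact ⟨w, hw, hwz, h1⟩
    have hw1 := hJinv w hw
    by_cases h2 : eps h (eps h w) ∈ zpowers z
    · exact ⟨_, hw1, h1, h2⟩
    have hw2 := hJinv _ hw1
    by_cases h3 : eps h (eps h (eps h w)) ∈ zpowers z
    · exact ⟨_, hw2, h2, h3⟩
    exact ⟨_, hJinv _ hw2, h3, hiter w hw.1.1⟩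
  have hYsq : ∀ y ∈ Yc, y * y = 1 := by
    set Y := adj (zpowers z) w₀ hw₀.2 (fun d hd => (commute_of_z L.s hd hw₀.1.1).eq)
    have heq : Y = Yc := by
      refine eq_of_le_of_card_ge ?_ (by rw [card_adj hw₀z, card_zpowers L.s, hY4])
      have hzY : zpowers z ≤ Yc := zpowers_le.mpr (mem_inf.mpr ⟨L.s.zE, mem_centralizer_iff.mpr fun x hx =>
        zc L.s (map_subtype_le _ hx)⟩)
      rintro x (hx | hx)
      · exact hzY hx
      · exact (Yc.mul_mem_cancel_right (hfixY w₀ hw₀.1 hw₀d)).mp (hzY hx)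
    intro y hy
    rw [← heq] at hy
    have hzJ : z ∈ J := ⟨L.z_mem, L.s.z2⟩
    have hyJ : y ∈ J := by
      rcases hy with hy | hy
      · exact zpowers_le.mpr hzJ hy
      · exact (J.mul_mem_cancel_right hw₀).mp (zpowers_le.mpr hzJ hy)
    exact hyJ.2
  -- a chain of length three
  obtain ⟨x, hx⟩ : ∃ q, ψ (ψ q) ≠ 1 := by
    by_contra hc
    push Not at hc
    have hle : ψ.range ≤ ψ.ker := by rintro _ ⟨q, rfl⟩; exact hc q
    have h1 := Subgroup.card_le_of_le hle
    have h3 := card_mul_index ψ.ker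
    rw [index_ker, hk2] at h3
    omega
  have h4it : ∀ q, ψ (ψ (ψ (ψ q))) = 1 := fun q => by
    have := psi_iterate_eq_one L.s L.z_mem L.hh L.eps_A (j := 2) hh4 q
    simpa only [show (2 : ℕ) ^ 2 = 4 from rfl, Function.iterate_succ_apply', Function.iterate_zero_apply]
      using this
  obtain ⟨x, hx, hx3⟩ : ∃ q, ψ (ψ q) ≠ 1 ∧ ψ (ψ (ψ q)) = 1 := by
    by_cases h' : ψ (ψ (ψ x)) = 1
    · exact ⟨x, hx, h'⟩
    · exact ⟨ψ x, h', h4it x⟩
  induction x using QuotientGroup.induction_on with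
  | _ e₁ =>
    set e₂ : E := ⟨eps h (eps h (e₁ : G)), eps_mem L.s L.hh (eps_mem L.s L.hh e₁.2)⟩ with he₂
    have hev : ψ (ψ (e₁ : E ⧸ (E ⊓ Subgroup.map (MulEquiv.toMonoidHom (MulAut.conj g)) H).subgroupOf E)) = (e₂ : E ⧸ (E ⊓ Subgroup.map (MulEquiv.toMonoidHom (MulAut.conj g)) H).subgroupOf E) := rfl
    rw [hev] at hx hx3
    have hke : (e₂ : E ⧸ (E ⊓ Subgroup.map (MulEquiv.toMonoidHom (MulAut.conj g)) H).subgroupOf E) ∈ ψ.ker := MonoidHom.mem_ker.mpr hx3
    have hee := huniq ⟨_, hke⟩ (fun e => hx (congrArg Subtype.val e))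
    rw [← hee, hG' e₂ hke] at hv
    have hA := (hker e₂).mp hke
    exact (hord e₂ hA hv).1 (hYsq _ (hfixY _ hA (hiter e₁ e₁.2)))

end Local

end Cfsg.Agent.WCIndexTwo
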