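import Cfsg.Agent.Lib.WCIndexTwo.Basic

/-!
# Two commuting conjugates of `z`

For a pair `z`, `a` with nonabelian `C_E(a)` : `C_E(a)` is the centralizer in `E` of `D = E ∩ F`,
`|E : C_E(a)| = |D| = |F : C_F(z)|`.
-/

set_option autoImplicit false
open scoped commutatorElement

namespace Cfsg.Agent.WCIndexTwo

open Subgroup LargeExtraspecial.TransferFixed

variable {G : Type*} [Group G] {H E H' F : Subgroup G} {z a : G}

/-- Two commuting points, neither in the subgroup of the other. -/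
structure Pair (H E : Subgroup G) (z : G) (H' F : Subgroup G) (a : G) : Prop where
  s1 : Setting H E z
  s2 : Setting H' F a
  w1 : WC E z
  w2 : WC F a
  aH : a ∈ H
  zH' : z ∈ H'
  aE : a ∉ E
  zF : z ∉ F
  card_eq : Nat.card E = Nat.card F

theorem Pair.symm (P : Pair H E z H' F a) : Pair H' F a H E z :=
  ⟨P.s2, P.s1, P.w2, P.w1, P.zH', P.aH, P.zF, P.aE, P.card_eq.symm⟩

/-- `x⁻¹ (t x t⁻¹)`. -/
def dd (t x : G) : G := x⁻¹ * (t * x * t⁻¹)

theorem dd_mem {H E : Subgroup G} {z : G} (hS : Setting H E z) {t x : G} (ht : t ∈ H) (hx : x ∈ E) :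
    dd t x ∈ E :=
  mul_mem (inv_mem hx) (hS.hnorm t ht x hx)

/-- The subgroup `D ∪ D a`. -/
def adj (D : Subgroup G) (a : G) (ha : a * a = 1) (hc : ∀ d ∈ D, d * a = a * d) : Subgroup G where
  carrier := {x | x ∈ D ∨ x * a ∈ D}
  one_mem' := .inl (one_mem D)
  mul_mem' := by
    intro x y hx hy
    rcases hx with hx | hx <;> rcases hy with hy | hy
    · exact .inl (mul_mem hx hy)
    · right; rw [mul_assoc]; exact mul_mem hx hy
    · right
      have : x * y * a = x * a * y := by rw [mul_assoc, hc y hy, ← mul_assoc]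
      rw [this]; exact mul_mem hx hy
    · left
      have e : x * y = x * a * (y * a) := by
        have := hc _ hy
        calc x * y = x * (y * a * a) := by rw [mul_assoc y, ha, mul_one]
          _ = x * (a * (y * a)) := by rw [this]
          _ = _ := by rw [← mul_assoc]
      rw [e]; exact mul_mem hx hy
  inv_mem' := by
    intro x hx
    rcases hx with hx | hx
    · exact .inl (inv_mem hx)
    · right
      have h := inv_mem hx
      have e : x⁻¹ * a = (x * a)⁻¹ := by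
        have e1 : a⁻¹ = a := inv_eq_of_mul_eq_one_right ha
        have := hc _ h
        rw [mul_inv_rev, e1] at this ⊢
        calc x⁻¹ * a = (a * a) * (x⁻¹ * a) := by rw [ha, one_mul]
          _ = a * (a * x⁻¹ * a) := by group
          _ = a * (a * (a * x⁻¹)) := by rw [this]
          _ = (a * a) * (a * x⁻¹) := by group
          _ = _ := by rw [ha, one_mul]
      rw [e]; exact h

theorem mem_adj {D : Subgroup G} {a : G} {ha : a * a = 1} {hc : ∀ d ∈ D, d * a = a * d} {x : G} :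
    x ∈ adj D a ha hc ↔ x ∈ D ∨ x * a ∈ D := Iff.rfl

theorem card_adj [Finite G] {D : Subgroup G} {a : G} {ha : a * a = 1} {hc : ∀ d ∈ D, d * a = a * d}
    (haD : a ∉ D) : Nat.card ↥(adj D a ha hc) = 2 * Nat.card D := by
  have hle : D ≤ adj D a ha hc := fun x hx => .inl hx
  have h2 : (D.subgroupOf (adj D a ha hc)).index = 2 := by
    rw [index_eq_two_iff]
    refine ⟨⟨a, .inr (by rw [ha]; exact one_mem D)⟩, fun b => ?_⟩
    show Xor' ((b : G) * a ∈ D) ((b : G) ∈ D)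
    rcases b.2 with h | h
    · exact .inr ⟨h, fun h' => haD ((D.mul_mem_cancel_left h).mp h')⟩
    · exact .inl ⟨h, fun h' => haD ((D.mul_mem_cancel_left h').mp h)⟩
  have := card_mul_index (D.subgroupOf (adj D a ha hc))
  rw [h2, Nat.card_congr (subgroupOfEquivOfLe hle).toEquiv] at this
  omega

namespace Pair

variable (P : Pair H E z H' F a)
include P

theorem u_mem {α β : G} (hα : α ∈ E) (hα' : α ∈ H') (hβ : β ∈ F) (hβ' : β ∈ H) : dd α β ∈ E ⊓ F := by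
  refine mem_inf.mpr ⟨?_, dd_mem P.s2 hα' hβ⟩
  have e : dd α β = (β⁻¹ * α * β⁻¹⁻¹) * α⁻¹ := by simp only [dd]; group
  rw [e]
  exact mul_mem (P.s1.hnorm _ (inv_mem hβ') _ hα) (inv_mem hα)

theorem d_comm {α d : G} (hα : α ∈ E) (hα' : α ∈ H') (hd : d ∈ E ⊓ F) : α * d = d * α := by
  rcases com_cases P.s1 hα hd.1 with h | h
  · exact commutatorElement_eq_one_iff_mul_comm.mp h
  · exfalso
    apply P.zF
    rw [← h, commutatorElement_def]
    exact mul_mem (P.s2.hnorm α hα' d hd.2) (inv_mem hd.2)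

theorem d_sq {d : G} (hd : d ∈ E ⊓ F) : d * d = 1 := by
  refine (P.s1.sq d hd.1).resolve_right fun h => P.zF ?_
  rw [← h]; exact mul_mem hd.2 hd.2

theorem d_mem_H' {d : G} (hd : d ∈ E ⊓ F) : d ∈ E ⊓ H' := ⟨hd.1, P.s2.hEH hd.2⟩

theorem d_comm_a {d : G} (hd : d ∈ E ⊓ F) : d * a = a * d := zc P.s2 hd.2

theorem za_comm : z * a = a * z := (P.s2.hH z).mp P.zH'

theorem key {g α₁ α₂ : G} (hα₁ : α₁ ∈ E ⊓ H') (hα₂ : α₂ ∈ E ⊓ H') (h12 : α₁ * α₂ = α₂ * α₁ * z)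
    (hb : ∀ α ∈ E ⊓ H', dd α g ∈ F ⊓ H ∧ ∀ b ∈ F ⊓ H, ⁅dd α g, b⁆ = 1) : g ∈ H := by
  obtain ⟨hb1, hb1c⟩ := hb α₁ hα₁
  obtain ⟨hb2, -⟩ := hb α₂ hα₂
  set β₁ := dd α₁ g with hβ₁
  set β₂ := dd α₂ g with hβ₂
  have hu1 : dd α₁ β₂ ∈ E ⊓ F := P.u_mem hα₁.1 hα₁.2 hb2.1 hb2.2
  have hu2 : dd α₂ β₁ ∈ E ⊓ F := P.u_mem hα₂.1 hα₂.2 hb1.1 hb1.2
  have e12 : (α₁ * α₂) * g * (α₁ * α₂)⁻¹ = g * β₁ * β₂ * dd α₁ β₂ := by
    simp only [hβ₁, hβ₂, dd]; group
  have e21 : (α₂ * α₁) * g * (α₂ * α₁)⁻¹ = g * β₂ * β₁ * dd α₂ β₁ := by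
    simp only [hβ₁, hβ₂, dd]; group
  set φ := α₂ * α₁ with hφ
  have e3 : φ * dd z g * φ⁻¹ = (φ * g * φ⁻¹)⁻¹ * ((α₁ * α₂) * g * (α₁ * α₂)⁻¹) := by
    rw [h12]; simp only [dd]; group
  rw [e12, e21, show g * β₁ * β₂ * dd α₁ β₂ = g * (β₁ * β₂) * dd α₁ β₂ by group,
    mul_mem_comm P.s2 (hb1c β₂ hb2)] at e3
  have e4 : φ * dd z g * φ⁻¹ = (dd α₂ β₁)⁻¹ * dd α₁ β₂ := by rw [e3]; group
  have hd : (dd α₂ β₁)⁻¹ * dd α₁ β₂ ∈ E ⊓ F := mul_mem (inv_mem hu2) hu1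
  have hc : φ * ((dd α₂ β₁)⁻¹ * dd α₁ β₂) = ((dd α₂ β₁)⁻¹ * dd α₁ β₂) * φ :=
    P.d_comm (mul_mem hα₂.1 hα₁.1) (mul_mem hα₂.2 hα₁.2) hd
  have e5 : dd z g = (dd α₂ β₁)⁻¹ * dd α₁ β₂ := by
    calc dd z g = φ⁻¹ * (φ * dd z g * φ⁻¹) * φ := by group
      _ = _ := by rw [e4, mul_assoc, ← hc, inv_mul_cancel_left]
  have hin : g⁻¹ * z * g ∈ E := by
    have : dd z g * z ∈ E := mul_mem (e5 ▸ hd.1) P.s1.zE
    simpa [dd, mul_assoc] using this
  rw [P.s1.hH]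
  calc g * z = g * (g⁻¹ * z * g) := by rw [P.w1.eq_of_mem rfl hin]
    _ = _ := by group

theorem gamma_comm {f b : G} (hf : f ∈ F) (hb : b ∈ F ⊓ H) : ⁅dd z f, b⁆ = 1 := by
  have hbz : z * b * z⁻¹ = b := by rw [← (P.s1.hH b).mp hb.2, mul_inv_cancel_right]
  have h := com_conj P.s2 P.zH' hf hb.1
  rw [hbz, show z * f * z⁻¹ = f * dd z f by simp [dd],
    com_mul_left P.s2 hf (dd_mem P.s2 P.zH' hf) hb.1] at h
  exact mul_eq_left.mp h

theorem mem_of_fixed {g α₁ α₂ : G} (hα₁ : α₁ ∈ E ⊓ H') (hα₂ : α₂ ∈ E ⊓ H')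
    (h12 : α₁ * α₂ = α₂ * α₁ * z) (hg : g ∈ F) (hgB : ∀ b ∈ F ⊓ H, ⁅g, b⁆ = 1)
    (hgz : dd z g = 1 ∨ dd z g = a) : g ∈ H := by
  refine P.key hα₁ hα₂ h12 fun α hα => ?_
  have hm : dd α g ∈ F := dd_mem P.s2 hα.2 hg
  refine ⟨mem_inf.mpr ⟨hm, ?_⟩, fun b hb => ?_⟩
  · rw [P.s1.hH]
    have hαz : α * z = z * α := zc P.s1 hα.1
    have hαγ : α * dd z g * α⁻¹ = dd z g := by
      rcases hgz with h | h <;> rw [h]
      · group
      · rw [(P.s2.hH α).mp hα.2, mul_inv_cancel_right]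
    have hcen : dd α g * dd z g = dd z g * dd α g := by
      rcases hgz with h | h <;> rw [h]
      · simp
      · exact zc P.s2 hm
    have e : z * dd α g * z⁻¹ = (dd z g)⁻¹ * dd α g * dd z g := by
      have e1 : z * dd α g * z⁻¹ = (g * dd z g)⁻¹ * ((z * α) * g * (z * α)⁻¹) := by simp only [dd]; group
      rw [e1, ← hαz, show (α * z) * g * (α * z)⁻¹ = α * g * α⁻¹ * (α * dd z g * α⁻¹) by simp only [dd]; group,
        hαγ]
      simp only [dd]; group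
    rw [mul_assoc (dd z g)⁻¹ (dd α g) (dd z g), hcen, inv_mul_cancel_left] at e
    exact (mul_inv_eq_iff_eq_mul.mp e).symm
  · have hb' : α⁻¹ * b * α ∈ F ⊓ H := by
      refine mem_inf.mpr ⟨?_, mul_mem (mul_mem (inv_mem (P.s1.hEH hα.1)) hb.2) (P.s1.hEH hα.1)⟩
      have := P.s2.hnorm α⁻¹ (inv_mem hα.2) b hb.1
      rwa [inv_inv] at this
    have h1 := com_conj P.s2 hα.2 hg hb'.1
    rw [show α * (α⁻¹ * b * α) * α⁻¹ = b by group, hgB _ hb'] at h1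
    rw [dd, com_mul_left P.s2 (inv_mem hg) (P.s2.hnorm α hα.2 g hg) hb.1,
      com_inv_left P.s2 hg hb.1, hgB b hb, h1, mul_one]

variable {α₁ α₂ : G} (hα₁ : α₁ ∈ E ⊓ H') (hα₂ : α₂ ∈ E ⊓ H') (h12 : α₁ * α₂ = α₂ * α₁ * z)
include hα₁ hα₂ h12

theorem gamma_mem {f : G} (hf : f ∈ F) : dd z f ∈ F ⊓ H := by
  have hm := dd_mem P.s2 P.zH' hf
  refine ⟨hm, P.mem_of_fixed hα₁ hα₂ h12 hm (fun b hb => P.gamma_comm hf hb) ?_⟩
  have e0 : z * dd z f * z⁻¹ = (dd z f)⁻¹ := by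
    refine eq_inv_of_mul_eq_one_left ?_
    calc z * dd z f * z⁻¹ * dd z f = z * f⁻¹ * z * f * (z * z)⁻¹ * f⁻¹ * z * f * z⁻¹ := by
          simp only [dd]; group
      _ = z * f⁻¹ * z * f * f⁻¹ * z * f * z⁻¹ := by rw [P.s1.z2]; group
      _ = z * f⁻¹ * (z * z) * f * z⁻¹ := by group
      _ = 1 := by rw [P.s1.z2]; group
  have e : dd z (dd z f) = (dd z f * dd z f)⁻¹ := by
    rw [show dd z (dd z f) = (dd z f)⁻¹ * (z * dd z f * z⁻¹) from rfl, e0, mul_inv_rev]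
  rcases P.s2.sq _ hm with h | h <;> rw [e, h]
  · exact .inl inv_one
  · exact .inr (inv_eq_of_mul_eq_one_right P.s2.z2)

theorem cent_B_le {g : G} (hg : g ∈ F) (hgB : ∀ b ∈ F ⊓ H, ⁅g, b⁆ = 1) : g ∈ H := by
  refine P.mem_of_fixed hα₁ hα₂ h12 hg hgB ?_
  have hγg := dd_mem P.s2 P.zH' hg
  refine P.s2.cen _ hγg fun f hf => mul_mem_comm P.s2 ?_
  have hγf := dd_mem P.s2 P.zH' hf
  have h := com_conj P.s2 P.zH' hg hf
  rw [show z * g * z⁻¹ = g * dd z g by simp [dd], show z * f * z⁻¹ = f * dd z f by simp [dd],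
    com_mul_left P.s2 hg hγg (mul_mem hf hγf), com_mul_right P.s2 hf hγf hg,
    com_mul_right P.s2 hf hγf hγg, hgB _ (P.gamma_mem hα₁ hα₂ h12 hf),
    P.gamma_comm hg (P.gamma_mem hα₁ hα₂ h12 hf), mul_one, mul_one] at h
  exact mul_eq_left.mp h

theorem cent_D_le {v : G} (hv : v ∈ F) (hvD : ∀ d ∈ E ⊓ F, ⁅v, d⁆ = 1) : v ∈ H := by
  refine P.key hα₁ hα₂ h12 fun α hα => ?_
  have hm : dd α v ∈ F := dd_mem P.s2 hα.2 hv
  have hβd : ∀ d ∈ E ⊓ F, ⁅dd α v, d⁆ = 1 := by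
    intro d hd
    have h1 := com_conj P.s2 hα.2 hv hd.2
    rw [P.d_comm hα.1 hα.2 hd, mul_inv_cancel_right, hvD d hd] at h1
    rw [dd, com_mul_left P.s2 (inv_mem hv) (P.s2.hnorm α hα.2 v hv) hd.2,
      com_inv_left P.s2 hv hd.2, hvD d hd, h1, mul_one]
  have hβB : ∀ b ∈ F ⊓ H, ⁅dd α v, b⁆ = 1 := by
    intro b hb
    have hu : dd α b ∈ E ⊓ F := P.u_mem hα.1 hα.2 hb.1 hb.2
    have h := com_conj P.s2 hα.2 hv hb.1
    rw [show α * v * α⁻¹ = v * dd α v by simp [dd], show α * b * α⁻¹ = b * dd α b by simp [dd],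
      com_mul_left P.s2 hv hm (mul_mem hb.1 hu.2), com_mul_right P.s2 hb.1 hu.2 hv,
      com_mul_right P.s2 hb.1 hu.2 hm, hvD _ hu, hβd _ hu, mul_one, mul_one] at h
    exact mul_eq_left.mp h
  exact ⟨⟨hm, P.cent_B_le hα₁ hα₂ h12 hm hβB⟩, hβB⟩

/-- `C_F(z) = C_F(D)`. -/
theorem mem_B_iff {v : G} : v ∈ F ⊓ H ↔ v ∈ F ∧ ∀ d ∈ E ⊓ F, ⁅v, d⁆ = 1 := by
  refine ⟨fun hv => ⟨hv.1, fun d hd => ?_⟩, fun ⟨hv, hvD⟩ => ⟨hv, P.cent_D_le hα₁ hα₂ h12 hv hvD⟩⟩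
  exact commutatorElement_eq_one_iff_mul_comm.mpr
    (P.symm.d_comm hv.1 hv.2 ⟨hd.2, hd.1⟩)

theorem B_eq : F ⊓ H = F ⊓ centralizer
    ((adj (E ⊓ F) a P.s2.z2 fun _ hd => P.d_comm_a hd : Subgroup G) : Set G) := by
  ext v
  rw [P.mem_B_iff hα₁ hα₂ h12, mem_inf, mem_centralizer_iff]
  refine and_congr_right fun hv => ⟨fun h x hx => ?_, fun h d hd =>
    commutatorElement_eq_one_iff_mul_comm.mpr (h d (.inl hd)).symm⟩
  rcases hx with hx | hx
  · exact (commutatorElement_eq_one_iff_mul_comm.mp (h x hx)).symm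
  · have h1 : Commute v (x * a) := commutatorElement_eq_one_iff_mul_comm.mp (h _ hx)
    have h2 : Commute v a := zc P.s2 hv
    have := h1.mul_right h2.inv_right
    rw [mul_inv_cancel_right] at this
    exact this.symm.eq

variable [Finite G]

theorem card_B : Nat.card ↥(F ⊓ H) * Nat.card ↥(E ⊓ F) = Nat.card F := by
  have hle : adj (E ⊓ F) a P.s2.z2 (fun _ hd => P.d_comm_a hd) ≤ F := by
    rintro x (hx | hx)
    · exact hx.2
    · exact (F.mul_mem_cancel_right P.s2.zE).mp hx.2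
  have h := card_cent P.s2 hle (.inr (by rw [P.s2.z2]; exact one_mem _))
  rw [← P.B_eq hα₁ hα₂ h12, card_adj (fun h : a ∈ E ⊓ F => P.aE h.1)] at h
  linarith

theorem nonab : ∃ β₁ ∈ F ⊓ H, ∃ β₂ ∈ F ⊓ H, β₁ * β₂ = β₂ * β₁ * a := by
  by_contra hcon
  push Not at hcon
  have hab : ∀ b ∈ F ⊓ H, ∀ b' ∈ F ⊓ H, b * b' = b' * b := fun b hb b' hb' =>
    (P.s2.comm b hb.1 b' hb'.1).resolve_right (hcon b hb b' hb')
  set Da := adj (E ⊓ F) a P.s2.z2 (fun _ hd => P.d_comm_a hd) with hDa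
  have hDaF : Da ≤ F := by
    rintro x (hx | hx)
    · exact hx.2
    · exact (F.mul_mem_cancel_right P.s2.zE).mp hx.2
  have hzDa : a ∈ Da := .inr (by rw [P.s2.z2]; exact one_mem _)
  have hcc := cent_cent P.s2 hDaF hzDa
  rw [← P.B_eq hα₁ hα₂ h12] at hcc
  have hB : F ⊓ H ≤ Da := hcc ▸ le_inf inf_le_left fun b hb => mem_centralizer_iff.mpr fun b' hb' => hab b' hb' b hb
  have hBc := Subgroup.card_le_of_le hB
  rw [card_adj (fun h : a ∈ E ⊓ F => P.aE h.1)] at hBc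
  have hF := P.card_B hα₁ hα₂ h12
  set Dz := adj (E ⊓ F) z P.s1.z2 (fun _ hd => zc P.s1 hd.1) with hDz
  have hDzE : Dz ≤ E := by
    rintro x (hx | hx)
    · exact hx.1
    · exact (E.mul_mem_cancel_right P.s1.zE).mp hx.1
  have hDzc := card_cent P.s1 hDzE (.inr (by rw [P.s1.z2]; exact one_mem _))
  rw [card_adj (fun h : z ∈ E ⊓ F => P.zF h.2), P.card_eq, ← hF] at hDzc
  have hcomD : ∀ x ∈ Dz, ∀ d ∈ E ⊓ F, x * d = d * x := by
    intro x hx d hd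
    rcases hx with hx | hx
    · exact P.d_comm hx.1 (P.d_mem_H' hx).2 hd
    · exact P.d_comm ((E.mul_mem_cancel_right P.s1.zE).mp hx.1)
        ((H'.mul_mem_cancel_right P.zH').mp (P.d_mem_H' hx).2) hd
  have hle : Dz ≤ E ⊓ centralizer (Dz : Set G) := by
    intro x hx
    refine ⟨hDzE hx, mem_centralizer_iff.mpr fun y hy => ?_⟩
    rcases hy with hy | hy
    · exact (hcomD x hx y hy).symm
    · have h1 : Commute x (y * z) := hcomD x hx _ hy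
      have h2 : Commute x z := zc P.s1 (hDzE hx)
      have := h1.mul_right h2.inv_right
      rw [mul_inv_cancel_right] at this
      exact this.symm.eq
  have heq : Dz = E ⊓ centralizer (Dz : Set G) := by
    refine eq_of_le_of_card_ge hle ?_
    rw [card_adj (fun h : z ∈ E ⊓ F => P.zF h.2)]
    have hpos : 0 < Nat.card ↥(E ⊓ F) := Nat.card_pos
    have h3 : Nat.card ↥(E ⊓ centralizer (Dz : Set G)) = Nat.card ↥(F ⊓ H) := by
      apply Nat.eq_of_mul_eq_mul_right (show 0 < 2 * Nat.card ↥(E ⊓ F) by omega)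
      rw [hDzc]; ring
    omega
  have hA : ∀ α ∈ E ⊓ H', α ∈ Dz := by
    intro α hα
    rw [heq]
    refine ⟨hα.1, mem_centralizer_iff.mpr fun y hy => ?_⟩
    rcases hy with hy | hy
    · exact (P.d_comm hα.1 hα.2 hy).symm
    · have h1 : Commute α (y * z) := P.d_comm hα.1 hα.2 hy
      have h2 : Commute α z := zc P.s1 hα.1
      have := h1.mul_right h2.inv_right
      rw [mul_inv_cancel_right] at this
      exact this.symm.eq
  have hc : α₁ * α₂ = α₂ * α₁ :=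
    mem_centralizer_iff.mp (hle (hA α₂ hα₂)).2 α₁ (hA α₁ hα₁)
  rw [hc] at h12
  exact P.s1.z1 (mul_eq_left.mp h12.symm)

end Pair

end Cfsg.Agent.WCIndexTwo
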